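import Cfsg.Agent.Lib.MinIdxU.FiveTwoLev
import Cfsg.Agent.Lib.Classical.SUOrder

/-!
# The minimal index in `SU₅(2)`
-/

set_option autoImplicit false
set_option linter.unusedSectionVars false

namespace CfsgLib.MinIdxU

open CfsgLib.Classical CfsgLib.Geom
open scoped LinearAlgebra.Projectivization
open Projectivization (mk mk_eq_mk_iff' mk_rep rep_nonzero)

universe u v w

variable {F : Type u} [Field F] [Fintype F] {q : ℕ} {hF : Fintype.card F = q ^ 2}
variable {V : Type v} [AddCommGroup V] [Module F V] [FiniteDimensional F V]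
variable {B : V →ₛₗ[qFrob hF] V →ₗ[F] F} (H : IsHermSpace B) (hV : Gen B) (hq : q = 2)
  (h5 : Module.finrank F V = 5)
include H hV hq h5

theorem card_ut_five_two : Nat.card ↥(utGroup H) = 13685760 := by
  subst hq
  obtain ⟨e, he⟩ := exists_isometry_hermB hF 5 B H.conj H.sep h5
  rw [Nat.card_congr (utCongr H e he).toEquiv,
    ← Nat.card_congr (suEquiv hF (by norm_num) (by norm_num : ¬ ((5 : ℕ) = 3 ∧ (2 : ℕ) = 2))).toEquiv]
  have h := card_su_mul hF (show 1 ≤ 5 by norm_num)
  rw [card_gu hF] at h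
  simp [Finset.prod_range_succ, Nat.even_iff] at h
  omega

/-- An element of order eleven fixes no non-zero vector. -/
theorem no_fixed_eleven {y : ↥(utGroup H)} (hy : orderOf y = 11) {v : V} (hv : v ≠ 0) :
    y.1.1 v ≠ v := by
  intro hyv
  have := finite_utGroup H
  have := finite_V H
  have hG := card_ut_five_two H hV hq h5
  have horb : 11 ∣ Nat.card (MulAction.orbit ↥(utGroup H) v) := by
    by_cases hvv : B v v = 0
    · have e : MulAction.orbit ↥(utGroup H) v = {x : V | x ≠ 0 ∧ B x x = 0} := by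
        ext x
        constructor
        · rintro ⟨g, rfl⟩
          exact ⟨fun h => hv (g.1.1.map_eq_zero_iff.1 h), (g.1.2 v v).trans hvv⟩
        · rintro ⟨hx, hxx⟩
          obtain ⟨g, hg, hgx⟩ := ut_transitive H hV.1 hV.2 hvv hxx hv hx
          exact ⟨⟨g, hg⟩, hgx⟩
      rw [e, show Nat.card ↥{x : V | x ≠ 0 ∧ B x x = 0} = Nat.card {x : V // x ≠ 0 ∧ B x x = 0} from rfl,
        card_iso H, h5, hq, show nIso 2 5 = 165 by simp [nIso]]
      norm_num
    · have e : MulAction.orbit ↥(utGroup H) v = {x : V | B x x ≠ 0} := by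
        ext x
        constructor
        · rintro ⟨g, rfl⟩
          show B (g.1.1 v) (g.1.1 v) ≠ 0
          rw [g.1.2]; exact hvv
        · intro hxx
          obtain ⟨g, hg, hgx⟩ := ut_transitive_norm H hV
            ((fix_two hq (H.self_fixed v) hvv).trans (fix_two hq (H.self_fixed x) hxx).symm) hvv
          exact ⟨⟨g, hg⟩, hgx⟩
      have h := card_aniso H
      rw [h5, show (q ^ 2 - 1) * nIso q 5 = 495 by rw [hq]; simp [nIso],
        show q ^ (2 * 5) = 1024 by rw [hq]; norm_num] at h
      simp only [ne_eq] at h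
      rw [e, show Nat.card ↥{x : V | B x x ≠ 0} = 528 by
        show Nat.card {x : V // ¬ B x x = 0} = 528
        omega]
      norm_num
  have hst : 11 ∣ Nat.card (MulAction.stabilizer ↥(utGroup H) v) := by
    rw [← hy, ← Subgroup.orderOf_mk y (show y ∈ MulAction.stabilizer ↥(utGroup H) v from hyv)]
    exact orderOf_dvd_natCard _
  have h := Nat.mul_dvd_mul horb hst
  rw [← Nat.card_prod, Nat.card_congr (MulAction.orbitProdStabilizerEquivGroup ↥(utGroup H) v), hG] at h
  norm_num at h

set_option synthInstance.maxHeartbeats 400000 in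
/-- The centralizer of an element of order eleven has order dividing a power of eleven. -/
theorem centralizer_eleven {y : ↥(utGroup H)} (hy : orderOf y = 11) :
    Nat.card ↥(Subgroup.centralizer ({y} : Set ↥(utGroup H))) = 11 := by
  classical
  have := finite_utGroup H
  have := finite_V H
  have hG := card_ut_five_two H hV hq h5
  have h2F := char_two_of_q hF hq
  obtain ⟨C, hC⟩ : ∃ C, C = Subgroup.centralizer ({y} : Set ↥(utGroup H)) := ⟨_, rfl⟩
  rw [← hC]
  have h11 : 11 ∣ Nat.card C := by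
    rw [← hy, ← Nat.card_zpowers]
    refine Subgroup.card_dvd_of_le ?_
    rw [hC, Subgroup.zpowers_le, Subgroup.mem_centralizer_singleton_iff]
  have hdvd : Nat.card C ∣ 11 * 1244160 := (show 13685760 = 11 * 1244160 by norm_num) ▸ hG ▸
    Subgroup.card_subgroup_dvd_card C
  have hno : ∀ r, r.Prime → r ∣ 1244160 → ¬ r ∣ Nat.card C := by
    intro r hr hrn hrC
    have : Fact r.Prime := ⟨hr⟩
    obtain ⟨c, hc⟩ := exists_prime_orderOf_dvd_card' r hrC
    have hr235 : r = 2 ∨ r = 3 ∨ r = 5 := by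
      rw [show 1244160 = 2 ^ 10 * 3 ^ 5 * 5 by norm_num] at hrn
      rcases hr.dvd_mul.1 hrn with h | h
      · rcases hr.dvd_mul.1 h with h | h
        · exact Or.inl ((Nat.prime_dvd_prime_iff_eq hr Nat.prime_two).1 (hr.dvd_of_dvd_pow h))
        · exact Or.inr (Or.inl ((Nat.prime_dvd_prime_iff_eq hr Nat.prime_three).1 (hr.dvd_of_dvd_pow h)))
      · exact Or.inr (Or.inr ((Nat.prime_dvd_prime_iff_eq hr (by norm_num)).1 h))
    have hco : orderOf c.1 = r := by rw [Subgroup.orderOf_coe, hc]
    have hcr : ∀ v, (c.1 ^ r).1.1 v = v := fun v => by rw [← hco, pow_orderOf_eq_one]; rfl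
    have heig : ∃ v : V, v ≠ 0 ∧ ∃ ε : F, c.1.1.1 v = ε • v := by
      by_cases hr3 : r = 3
      · subst hr3
        obtain ⟨ω, hω⟩ : ∃ ω : F, ω ^ 2 + ω + 1 = 0 := by
          obtain ⟨ω, h0, h1⟩ : ∃ ω : F, ω ≠ 0 ∧ ω ≠ 1 := by
            by_contra hc'
            push Not at hc'
            have hle : Nat.card F ≤ Nat.card ({0, 1} : Finset F) :=
              Nat.card_le_card_of_injective (fun a : F => (⟨a, by
                rcases em (a = 0) with h | h
                · simp [h]
                · simp [hc' a h]⟩ : ({0, 1} : Finset F))) fun a b e => congrArg Subtype.val e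
            rw [Nat.card_eq_finsetCard, Nat.card_eq_fintype_card, hF, hq] at hle
            have := Finset.card_le_two (a := (0 : F)) (b := (1 : F))
            omega
          refine ⟨ω, (mul_eq_zero.1 (show (ω - 1) * (ω ^ 2 + ω + 1) = 0 from ?_)).resolve_left
            (sub_ne_zero.2 h1)⟩
          linear_combination cube_two hF hq h0
        obtain ⟨v, hv⟩ : ∃ v : V, v ≠ 0 := by
          obtain ⟨P⟩ := exists_pair H hV
          exact ⟨P.p, P.hp0⟩
        obtain ⟨T, hT⟩ : ∃ T, T = c.1.1.1 := ⟨_, rfl⟩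
        rw [← hT]
        have hT3 : ∀ v, T (T (T v)) = v := fun v => hT ▸ hcr v
        by_cases e1 : T v - v = 0
        · exact ⟨v, hv, 1, by rw [one_smul]; exact sub_eq_zero.1 e1⟩
        by_cases e2 : T (T v - v) - ω • (T v - v) = 0
        · exact ⟨_, e1, ω, sub_eq_zero.1 e2⟩
        refine ⟨_, e2, -1 - ω, ?_⟩
        simp only [map_sub, map_smul, hT3]
        match_scalars <;> first | ring1 | linear_combination hω | linear_combination -hω
      · have hpg : IsPGroup r ↥(Subgroup.zpowers c.1) :=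
          IsPGroup.of_card (n := 1) (by rw [Nat.card_zpowers, hco, pow_one])
        have hcard : Nat.card V = 1024 := by rw [card_space H, h5, hq]; norm_num
        by_cases hr2 : r = 2
        · obtain ⟨v, hv, hv0⟩ := hpg.exists_fixed_point_of_prime_dvd_card_of_fixed_point V
            (by rw [hcard, hr2]; norm_num) (a := (0 : V)) fun g => g.1.1.1.map_zero
          exact ⟨v, hv0.symm, 1, by rw [one_smul]; exact hv ⟨c.1, Subgroup.mem_zpowers _⟩⟩
        · have h := hpg.card_modEq_card_fixedPoints V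
          rw [hcard, show r = 5 by omega] at h
          obtain ⟨v, hv0⟩ : ∃ v : MulAction.fixedPoints ↥(Subgroup.zpowers c.1) V, v.1 ≠ 0 := by
            by_contra hall
            push Not at hall
            have : Subsingleton (MulAction.fixedPoints ↥(Subgroup.zpowers c.1) V) :=
              ⟨fun a b => Subtype.ext ((hall a).trans (hall b).symm)⟩
            have := Finite.card_le_one_iff_subsingleton.2 this
            unfold Nat.ModEq at h
            omega
          exact ⟨v.1, hv0, 1, by rw [one_smul]; exact v.2 ⟨c.1, Subgroup.mem_zpowers _⟩⟩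
    obtain ⟨v, hv, ε, hε⟩ := heig
    obtain ⟨U, hU⟩ : ∃ U : Submodule F V, U = LinearMap.ker ((c.1.1.1 : V →ₗ[F] V) - ε • LinearMap.id) :=
      ⟨_, rfl⟩
    have hUmem : ∀ w, w ∈ U ↔ c.1.1.1 w = ε • w := fun w => by
      rw [hU, LinearMap.mem_ker, LinearMap.sub_apply, sub_eq_zero]
      rfl
    have hcy : c.1 * y = y * c.1 := Subgroup.mem_centralizer_singleton_iff.1 (hC ▸ c.2 : c.1 ∈ Subgroup.centralizer ({y} : Set _))
    let T : SubMulAction ↥(Subgroup.zpowers y) V :=
      { carrier := {w | w ∈ U ∧ w ≠ 0}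
        smul_mem' := fun g w hw => by
          refine ⟨(hUmem _).2 ?_, fun h => hw.2 (g.1.1.1.map_eq_zero_iff.1 h)⟩
          have hg : c.1 * g.1 = g.1 * c.1 := by
            obtain ⟨k, hk⟩ := g.2
            rw [← hk]; exact (Commute.zpow_right hcy k : _)
          show c.1.1.1 (g.1.1.1 w) = ε • g.1.1.1 w
          rw [← ut_mul_apply, hg, ut_mul_apply, (hUmem w).1 hw.1, map_smul] }
    have hy11 : IsPGroup 11 ↥(Subgroup.zpowers y) :=
      IsPGroup.of_card (n := 1) (by rw [Nat.card_zpowers, hy, pow_one])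
    have : Fact (Nat.Prime 11) := ⟨by norm_num⟩
    have hT11 : 11 ∣ Nat.card T := by
      by_contra hn
      obtain ⟨w, hw⟩ := hy11.nonempty_fixed_point_of_prime_not_dvd_card T hn
      exact no_fixed_eleven H hV hq h5 hy w.2.2 (congrArg Subtype.val (hw ⟨y, Subgroup.mem_zpowers y⟩))
    have hTc : Nat.card T + 1 = 4 ^ Module.finrank F U := by
      rw [← show Nat.card U = 4 ^ Module.finrank F U by
        rw [Module.natCard_eq_pow_finrank (K := F), Nat.card_eq_fintype_card, hF, hq]; norm_num]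
      rw [← Nat.card_congr (Equiv.optionSubtypeNe (0 : U)), Finite.card_option]
      congr 1
      exact Nat.card_congr
        { toFun := fun w => ⟨⟨w.1, w.2.1⟩, fun e => w.2.2 (congrArg Subtype.val e)⟩
          invFun := fun w => ⟨w.1.1, w.1.2, fun e => w.2 (Subtype.ext e)⟩
          left_inv := fun w => rfl
          right_inv := fun w => rfl }
    have hdim : Module.finrank F U = 5 := by
      have h1 : Module.finrank F U ≤ 5 := h5 ▸ Submodule.finrank_le U
      have h0 : Module.finrank F U ≠ 0 := fun h => by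
        rw [Submodule.finrank_eq_zero] at h
        exact hv (by simpa [h] using (hUmem v).2 hε)
      interval_cases hf : Module.finrank F U <;> omega
    have htop : U = ⊤ := Submodule.eq_top_of_finrank_eq (hdim.trans h5.symm)
    have hscal : ∀ w, c.1.1.1 w = ε • w := fun w => (hUmem w).1 (htop ▸ Submodule.mem_top)
    have hdet := ut_det H c.1
    rw [show (c.1.1.1 : V →ₗ[F] V) = ε • LinearMap.id from LinearMap.ext hscal, LinearMap.det_smul,
      LinearMap.det_id, mul_one, h5] at hdet
    have hε0 : ε ≠ 0 := fun h => by rw [h, zero_pow (by norm_num)] at hdet; exact zero_ne_one hdet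
    have hε3 := cube_two hF hq hε0
    have hε1 : ε = 1 := by linear_combination (ε ^ 3 + 1) * hε3 - ε * hdet
    have hc1 : c.1 = 1 := Subtype.ext (herm_ext fun w => by rw [hscal w, hε1, one_smul]; rfl)
    rw [hc1, orderOf_one] at hco
    exact hr.ne_one hco.symm
  refine Nat.dvd_antisymm ((Nat.Coprime.dvd_mul_right ?_).1 hdvd) h11
  exact Nat.coprime_of_dvd fun r hr h1 h2 => hno r hr h2 h1

/-- The index of a subgroup containing an element of order eleven, modulo eleven. -/
theorem index_mod_eleven (K : Subgroup ↥(utGroup H)) (h11 : ¬ 11 ∣ K.index) :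
    K.index % 11 = 1 ∨ K.index % 11 = 2 ∨ K.index % 11 = 5 ∨ K.index % 11 = 10 := by
  classical
  have := finite_utGroup H
  have hG := card_ut_five_two H hV hq h5
  have : Fact (Nat.Prime 11) := ⟨by norm_num⟩
  have hK : 11 ∣ Nat.card K := by
    have h : 11 ∣ Nat.card K * K.index := by rw [K.card_mul_index, hG]; norm_num
    exact ((Nat.Prime.dvd_mul (by norm_num)).1 h).resolve_right h11
  obtain ⟨k0, hk0⟩ := exists_prime_orderOf_dvd_card' 11 hK
  obtain ⟨y, hy⟩ : ∃ y, y = k0.1 := ⟨_, rfl⟩
  have hyo : orderOf y = 11 := by rw [hy, Subgroup.orderOf_coe, hk0]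
  obtain ⟨Z, hZ⟩ : ∃ Z, Z = Subgroup.zpowers y := ⟨_, rfl⟩
  have hZc : Nat.card Z = 11 := by rw [hZ, Nat.card_zpowers, hyo]
  have hZK : Z ≤ K := by rw [hZ, Subgroup.zpowers_le, hy]; exact k0.2
  obtain ⟨N, hN⟩ : ∃ N, N = Subgroup.normalizer (Z : Set ↥(utGroup H)) := ⟨_, rfl⟩
  have hZN : Z ≤ N := hN ▸ Subgroup.le_normalizer
  -- the normalizer modulo the group
  have hNdvd : Nat.card N ∣ 110 := by
    have hker : Z.normalizerMonoidHom.ker = (Subgroup.centralizer (Z : Set ↥(utGroup H))).subgroupOf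
        (Subgroup.normalizer (Z : Set ↥(utGroup H))) := Subgroup.normalizerMonoidHom_ker Z
    rw [hN, ← Z.normalizerMonoidHom.ker.card_mul_index, Subgroup.index_ker, hker,
      Nat.card_congr (Subgroup.subgroupOfEquivOfLe (Subgroup.centralizer_le_normalizer _)).toEquiv]
    rw [show Subgroup.centralizer (Z : Set ↥(utGroup H)) = Subgroup.centralizer ({y} : Set ↥(utGroup H)) by
      rw [hZ, Subgroup.zpowers_eq_closure, Subgroup.centralizer_closure],
      centralizer_eleven H hV hq h5 hyo]
    have : IsCyclic Z := isCyclic_of_prime_card hZc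
    have h10 : Nat.card (MulAut Z) = 10 := by
      rw [Nat.card_congr (IsCyclic.mulAutMulEquiv Z).toEquiv, hZc, Nat.card_eq_fintype_card,
        ZMod.card_units_eq_totient]
      rfl
    exact mul_dvd_mul_left 11 (h10 ▸ Subgroup.card_subgroup_dvd_card _)
  -- the fixed cosets
  let x0 : ↥(utGroup H) ⧸ K := ((1 : ↥(utGroup H)) : ↥(utGroup H) ⧸ K)
  have hfix : MulAction.fixedPoints ↥Z (↥(utGroup H) ⧸ K) = MulAction.orbit ↥N x0 := by
    ext x
    obtain ⟨g, rfl⟩ := QuotientGroup.mk_surjective x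
    constructor
    · intro hx
      have hconj : ∀ z ∈ Z, g⁻¹ * z * g ∈ K := fun z hz => by
        have h : ((z * g : ↥(utGroup H)) : ↥(utGroup H) ⧸ K) = (g : ↥(utGroup H) ⧸ K) := hx ⟨z, hz⟩
        rw [QuotientGroup.eq] at h
        simpa [mul_assoc] using inv_mem h
      obtain ⟨Z', hZ'⟩ : ∃ Z' : Subgroup ↥K,
          Z' = ((Z.map (MulAut.conj g⁻¹).toMonoidHom).subgroupOf K) := ⟨_, rfl⟩
      have hle' : Z.map (MulAut.conj g⁻¹).toMonoidHom ≤ K := by
        rintro _ ⟨z, hz, rfl⟩
        show g⁻¹ * z * g⁻¹⁻¹ ∈ K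
        rw [inv_inv]; exact hconj z hz
      have hZ'c : Nat.card Z' = 11 := by
        rw [hZ', Nat.card_congr (Subgroup.subgroupOfEquivOfLe hle').toEquiv, Subgroup.card_map_of_injective
          (MulAut.conj g⁻¹).injective, hZc]
      have hv11 : Nat.card K % 121 ≠ 0 := fun h => by
        have h' := (Nat.dvd_of_mod_eq_zero h).trans (hG ▸ Subgroup.card_subgroup_dvd_card K)
        norm_num at h'
      have hsyl : ∀ A : Subgroup ↥K, Nat.card A = 11 → ∃ S : Sylow 11 ↥K, (S : Subgroup ↥K) = A := by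
        intro A hA
        obtain ⟨S, hS⟩ := (IsPGroup.of_card (n := 1) (by rw [hA, pow_one]) : IsPGroup 11 ↥A).exists_le_sylow
        refine ⟨S, (Subgroup.eq_of_le_of_card_ge hS ?_).symm⟩
        obtain ⟨k, hk⟩ := IsPGroup.iff_card.1 S.isPGroup'
        have hd := hk ▸ Subgroup.card_subgroup_dvd_card (S : Subgroup ↥K)
        rw [hA, hk]
        by_contra hlt
        refine hv11 (Nat.mod_eq_zero_of_dvd ((pow_dvd_pow 11 (show 2 ≤ k from ?_)).trans hd))
        by_contra hk2
        interval_cases k <;> norm_num at hlt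
      obtain ⟨S1, hS1⟩ := hsyl Z' hZ'c
      obtain ⟨S2, hS2⟩ := hsyl (Z.subgroupOf K)
        (by rw [Nat.card_congr (Subgroup.subgroupOfEquivOfLe hZK).toEquiv, hZc])
      obtain ⟨k, hk⟩ := MulAction.exists_smul_eq ↥K S2 S1
      have hgk : g * k.1 ∈ N := by
        rw [hN, Subgroup.mem_normalizer_iff]
        intro z
        have hkey : ∀ w : ↥K, w ∈ (S2 : Subgroup ↥K) ↔ k * w * k⁻¹ ∈ (S1 : Subgroup ↥K) := fun w => by
          rw [← hk, Sylow.coe_subgroup_smul, Subgroup.mem_pointwise_smul_iff_inv_smul_mem]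
          simp [mul_assoc]
        have hmapmem : ∀ t : ↥(utGroup H), t ∈ Z.map (MulAut.conj g⁻¹).toMonoidHom ↔ g * t * g⁻¹ ∈ Z := fun t => by
          rw [Subgroup.mem_map]
          constructor
          · rintro ⟨w, hw, rfl⟩
            show g * (g⁻¹ * w * g⁻¹⁻¹) * g⁻¹ ∈ Z
            rwa [show g * (g⁻¹ * w * g⁻¹⁻¹) * g⁻¹ = w by group]
          · exact fun h => ⟨_, h, show g⁻¹ * (g * t * g⁻¹) * g⁻¹⁻¹ = t by group⟩
        constructor
        · intro hz
          have h := (hkey ⟨z, hZK hz⟩).1 (hS2 ▸ hz)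
          rw [hS1, hZ', Subgroup.mem_subgroupOf, hmapmem] at h
          simpa [mul_assoc] using h
        · intro hz
          have h1 : k.1 * z * k.1⁻¹ ∈ Z.map (MulAut.conj g⁻¹).toMonoidHom := by
            rw [hmapmem]; simpa [mul_assoc] using hz
          have hzK : z ∈ K := by
            have := mul_mem (mul_mem (inv_mem k.2) (hle' h1)) k.2
            simpa [mul_assoc] using this
          have h := (hkey ⟨z, hzK⟩).2 (by rw [hS1, hZ', Subgroup.mem_subgroupOf]; exact h1)
          rw [hS2] at h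
          exact h
      refine ⟨⟨_, hgk⟩, ?_⟩
      show ((g * k.1 * 1 : ↥(utGroup H)) : ↥(utGroup H) ⧸ K) = _
      rw [mul_one, QuotientGroup.eq]
      simp
    · rintro ⟨n, hn⟩ z
      rw [← hn]
      show ((z.1 * (n.1 * 1) : ↥(utGroup H)) : ↥(utGroup H) ⧸ K) = ((n.1 * 1 : ↥(utGroup H)) : ↥(utGroup H) ⧸ K)
      rw [mul_one, QuotientGroup.eq]
      have hn' : n.1⁻¹ ∈ Subgroup.normalizer (Z : Set ↥(utGroup H)) := hN.le (inv_mem n.2)
      have h := (Subgroup.mem_normalizer_iff.1 hn' _).1 (inv_mem z.2)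
      rw [inv_inv] at h
      have e : (z.1 * n.1)⁻¹ * n.1 = n.1⁻¹ * z.1⁻¹ * n.1 := by group
      rw [e]
      exact hZK h
  have hZp : IsPGroup 11 ↥Z := IsPGroup.of_card (n := 1) (by rw [hZc, pow_one])
  have hmod := hZp.card_modEq_card_fixedPoints (↥(utGroup H) ⧸ K)
  rw [← Subgroup.index_eq_card, hfix, Nat.card_coe_set_eq, ← MulAction.index_stabilizer] at hmod
  have hle : Z.subgroupOf N ≤ MulAction.stabilizer ↥N x0 := fun z hz => by
    show ((z.1 * 1 : ↥(utGroup H)) : ↥(utGroup H) ⧸ K) = _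
    rw [mul_one, QuotientGroup.eq, mul_one]
    exact inv_mem (hZK hz)
  have h10 : (MulAction.stabilizer ↥N x0).index ∣ 10 := by
    refine (Subgroup.index_dvd_of_le hle).trans ?_
    have h := (Z.subgroupOf N).card_mul_index
    rw [Nat.card_congr (Subgroup.subgroupOfEquivOfLe hZN).toEquiv, hZc] at h
    exact Nat.dvd_of_mul_dvd_mul_left (by norm_num : 0 < 11) (h ▸ (show Nat.card N ∣ 11 * 10 from hNdvd))
  unfold Nat.ModEq at hmod
  have := Nat.le_of_dvd (by norm_num) h10
  interval_cases hi : (MulAction.stabilizer ↥N x0).index <;> norm_num at h10 <;> omega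

omit H hV hq h5 in
/-- The number of isotropic points. -/
theorem card_points_five {V : Type u} [AddCommGroup V] [Module F V] [FiniteDimensional F V]
    {B : V →ₛₗ[qFrob hF] V →ₗ[F] F} (H : IsHermSpace B) (hq : q = 2) (h5 : Module.finrank F V = 5) : Nat.card (isoPoints H) = 165 := by
  have := finite_V H
  have h := card_points (F := F) {v : V | B v v = 0} fun v a ha => by simp [map_smulₛₗ, ha]
  rw [hF, show q ^ 2 - 1 = 3 by rw [hq]; norm_num] at h
  have e : Nat.card {v : V // v ≠ 0 ∧ v ∈ {v : V | B v v = 0}} = 3 * 165 := by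
    refine (Nat.card_congr (Equiv.subtypeEquivRight fun v => Iff.rfl)).trans ((card_iso H).trans ?_)
    rw [h5, hq]; simp [nIso]
  rw [e, mul_comm] at h
  exact (Nat.eq_of_mul_eq_mul_right (by norm_num) h).symm

end CfsgLib.MinIdxU
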