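import Cfsg.Agent.Lib.MinIdxU.FiveTwoMoved

/-!
# Levi elements and moved points for `SU₅(2)`
-/

set_option autoImplicit false
set_option linter.unusedSectionVars false

namespace CfsgLib.MinIdxU

open CfsgLib.Classical CfsgLib.Geom
open scoped Pointwise

universe u v w

variable {F : Type u} [Field F] [Fintype F] {q : ℕ} {hF : Fintype.card F = q ^ 2}
variable {V : Type v} [AddCommGroup V] [Module F V] [FiniteDimensional F V]
variable {B : V →ₛₗ[qFrob hF] V →ₗ[F] F} (H : IsHermSpace B) (hV : Gen B) (hq : q = 2)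
  (h5 : Module.finrank F V = 5) (P : UPair B)
include H hV hq h5

omit hV in
theorem finrank_W_five : Module.finrank F P.W = 3 := by have := P.finrank_W H; omega

omit hV in
/-- Every isometry of the complement comes from an element scaling the pair. -/
theorem exists_lev_of_isom (h : formIsoms P.form) :
    ∃ g a, ∃ hg : IsLev H P g a, ∀ w, levH H P hg w = h.1 w := by
  obtain ⟨d, hd⟩ : ∃ d, d = LinearMap.det (h.1 : P.W →ₗ[F] P.W) := ⟨_, rfl⟩
  have hd0 : d ≠ 0 := by
    rw [hd, ← LinearEquiv.coe_det]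
    exact Units.ne_zero _
  have hN := norm_two (hF := hF) hq hd0
  have h3 := cube_two hF hq hd0
  let f : V ≃ₗ[F] V := (P.lift H h).1.trans (LinearEquiv.smulOfNeZero F V d hd0)
  have hfz : ∀ z, f z = d • (P.lift H h).1 z := fun z => rfl
  let g0 : formIsoms B := ⟨f, fun x y => by
    simp only [hfz, map_smulₛₗ, LinearMap.smul_apply, RingHom.id_apply, smul_eq_mul, (P.lift H h).2 x y]
    linear_combination B x y * hN⟩
  have hdl : LinearMap.det ((P.lift H h).1 : V →ₗ[F] V) = d := by
    rw [hd]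
    have e : ((P.lift H h).1 : V →ₗ[F] V) = ((P.split H).symm : (P.W × F × F) →ₗ[F] V) ∘ₗ
        (LinearMap.prodMap (h.1 : P.W →ₗ[F] P.W) LinearMap.id) ∘ₗ
          ((P.split H).symm.symm : V →ₗ[F] (P.W × F × F)) := by
      refine LinearMap.ext fun z => ?_
      rfl
    rw [e, LinearMap.det_conj, LinearMap.det_prodMap, LinearMap.det_id, mul_one]
  have hdet : LinearMap.det (g0.1 : V →ₗ[F] V) = 1 := by
    have e : (g0.1 : V →ₗ[F] V) = d • ((P.lift H h).1 : V →ₗ[F] V) := LinearMap.ext fun z => rfl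
    rw [e, LinearMap.det_smul, hdl, h5]
    linear_combination (d ^ 3 + 1) * h3
  refine ⟨⟨g0, mem_utGroup_of_det H (by omega) (by omega) g0 hdet⟩, d, ⟨hd0, ?_, ?_⟩, fun w => Subtype.ext ?_⟩
  · show f P.p = _
    rw [hfz, P.lift_p H]
  · show f P.r = _
    rw [hfz, P.lift_r H, eq_inv_of_mul_eq_one_left hN, inv_inv]
  · show qFrob hF d • f (w : V) = _
    rw [hfz, P.lift_coe H, smul_smul, hN, one_smul]

variable {X : Type w} [MulAction ↥(utGroup H) X] [Fintype X] [DecidableEq X]

/-- A transvection moves exactly `128` or at least `165` points. -/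
theorem moved_five_two [MulAction.IsPretransitive ↥(utGroup H) X] (hX : 2 ≤ Fintype.card X) :
    (moved H hV P 1 (X := X)).card = 128 ∨ 165 ≤ (moved H hV P 1 (X := X)).card := by
  classical
  have h2F := char_two_of_q hF hq
  have h11 : (1 : F) + qFrob hF 1 = 0 := by rw [map_one]; linear_combination h2F
  have := finite_V H
  have hk := finrank_W_five H hq h5 P
  have hWc : Nat.card P.W = 64 := by rw [card_W H P, hk, hq]; norm_num
  obtain ⟨p, m, hp, hchar, -, -⟩ := exists_char hF
  have : Fact p.Prime := ⟨hp⟩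
  obtain ⟨φ, τ, hτ, hφτ⟩ := exists_phi hF p
  obtain rfl : τ = 1 := (skew_two (hF := hF) hq hτ).resolve_left fun h => hφτ (by rw [h, map_zero])
  obtain ⟨Mv, hMv⟩ : ∃ Mv, Mv = moved H hV P 1 (X := X) := ⟨_, rfl⟩
  have hz : ∀ y ∈ Mv, zsx H hV P y = ⊥ := fun y hy => (AddSubgroup.eq_bot_iff_forall _).2 fun c hc => by
    rcases skew_two (hF := hF) hq hc.1 with h | h
    · exact h
    · rw [hMv, moved, Finset.mem_filter] at hy
      exact absurd (h ▸ hc.2) hy.2
  have heq : ∀ y, y ∈ Mv → y ∈ eSet H hV P φ := fun y hy => (mem_eSet H hV P φ).2 fun c hc => by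
    rw [hz y hy, AddSubgroup.mem_bot] at hc
    rw [hc, map_zero]
  have heSet : ∀ y, y ∈ eSet H hV P φ → y ∈ Mv := fun y hy => by
    rw [hMv, moved, Finset.mem_filter]
    exact ⟨Finset.mem_univ _, fun h => hφτ ((mem_eSet H hV P φ).1 hy 1 ⟨h11, h⟩)⟩
  have horb : ∀ y ∈ Mv, qOrb H hV P y ⊆ Mv ∧ (qOrb H hV P y).card * Nat.card (hbx H hV P y) = 128 := by
    intro y hy
    refine ⟨fun z hz' => heSet z (eSet_of_qOrb H hV P φ (heq y hy) hz'), ?_⟩
    have h := card_qOrb_mul H hV P y
    rw [hz y hy, AddSubgroup.card_bot, mul_one, hWc] at h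
    omega
  rw [← hMv]
  obtain ⟨y, hy⟩ : Mv.Nonempty := hMv ▸ moved_nonempty H hV P hX h11 one_ne_zero
  by_cases hbig : ∃ y ∈ Mv, 1 < Nat.card (hbx H hV P y)
  · obtain ⟨y, hy, h1⟩ := hbig
    right
    have hsq := card_hbx_sq_le H hV P φ ⟨1, hτ, hφτ⟩ (heq y hy)
    rw [hWc, show (64 : ℕ) = 8 * 8 from rfl] at hsq
    have h8 := Nat.mul_self_le_mul_self_iff.1 hsq
    have hd : Nat.card (hbx H hV P y) ∣ 64 := hWc ▸ AddSubgroup.card_addSubgroup_dvd_card _
    have hsym : ∀ a ∈ hbx H hV P y, ∀ b ∈ hbx H hV P y, P.form a b = P.form b a := fun a ha b hb => by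
      have h := hbx_le_annx H hV P φ (heq y hy) ha b hb
      rw [pairW_apply] at h
      have hs : B (a : V) (b : V) - B (b : V) (a : V) +
          qFrob hF (B (a : V) (b : V) - B (b : V) (a : V)) = 0 := by rw [map_sub, H.conj, H.conj]; ring
      rcases skew_two (hF := hF) hq hs with h0 | h0
      · rw [P.form_apply, P.form_apply]; linear_combination h0
      · rw [h0] at h; exact absurd h hφτ
    have hI := images_ge (P.isHerm H) hk hq (hbx H hV P y) hsym h1 h8 hd
    obtain ⟨I, hIdef⟩ : ∃ I, I = (Set.range fun h : formIsoms P.form =>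
        (hbx H hV P y).map h.1.toLinearMap.toAddMonoidHom) := ⟨_, rfl⟩
    rw [← hIdef] at hI
    have hfam : I.ncard ≤ (pFam H hV P y).card := by
      obtain ⟨f, hf⟩ : ∃ f : Finset X → AddSubgroup P.W, f = fun o =>
          if ho : o.Nonempty then hbx H hV P ho.choose else ⊥ := ⟨_, rfl⟩
      have hsub : I ⊆ f '' (pFam H hV P y : Set (Finset X)) := by
        rw [hIdef]
        rintro _ ⟨h, rfl⟩
        obtain ⟨g, a, hg, he⟩ := exists_lev_of_isom H hq h5 P h
        refine ⟨qOrb H hV P (g • y), (mem_pFam H hV P).2 ⟨g, a, hg, rfl⟩, ?_⟩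
        have hne : (qOrb H hV P (g • y)).Nonempty := ⟨_, self_mem_qOrb H hV P _⟩
        rw [hf]
        simp only [dif_pos hne]
        obtain ⟨k, hk', hkz⟩ := (mem_qOrb H hV P).1 hne.choose_spec
        rw [← hkz, hb_q_smul H hV P hk']
        ext v
        obtain ⟨w, rfl⟩ := (levH_bijective H P hg).2 v
        rw [mem_hb_conj, AddSubgroup.mem_map]
        constructor
        · exact fun hw => ⟨w, hw, (he w).symm⟩
        · rintro ⟨z, hz', hzw⟩
          rw [he w] at hzw
          exact h.1.injective hzw ▸ hz'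
      exact (Set.ncard_le_ncard hsub (Set.toFinite _)).trans
        ((Set.ncard_image_le (Set.toFinite _)).trans (by rw [Set.ncard_coe_finset]))
    have hd2 : (pFam H hV P y : Set (Finset X)).PairwiseDisjoint id := fun a ha b hb hab => by
      obtain ⟨g, -, -, rfl⟩ := (mem_pFam H hV P).1 ha
      obtain ⟨g', -, -, rfl⟩ := (mem_pFam H hV P).1 hb
      exact qOrb_disjoint H hV P hab
    have hmem : ∀ o ∈ pFam H hV P y, o ⊆ Mv ∧ o.card * Nat.card (hbx H hV P y) = 128 := by
      intro o ho
      obtain ⟨g, a, hg, rfl⟩ := (mem_pFam H hV P).1 ho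
      have hgy := heSet _ (mem_eSet_lev_one H hV P φ hg (norm_two (hF := hF) hq hg.1) (heq y hy))
      obtain ⟨hs, hc⟩ := horb _ hgy
      rw [card_hbx_lev H hV P φ ⟨1, hτ, hφτ⟩ hg] at hc
      exact ⟨hs, hc⟩
    have hM : (pFam H hV P y).card * 128 ≤ Mv.card * Nat.card (hbx H hV P y) := by
      calc (pFam H hV P y).card * 128
          = ∑ o ∈ pFam H hV P y, (id o).card * Nat.card (hbx H hV P y) := by
            rw [← smul_eq_mul, ← Finset.sum_const]
            exact Finset.sum_congr rfl fun o ho => ((hmem o ho).2).symm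
        _ = ((pFam H hV P y).disjiUnion id hd2).card * Nat.card (hbx H hV P y) := by
            rw [Finset.card_disjiUnion, Finset.sum_mul]
        _ ≤ _ := Nat.mul_le_mul_right _ (Finset.card_le_card fun z hz' => by
            obtain ⟨o, ho, hzo⟩ := Finset.mem_disjiUnion.1 hz'
            exact (hmem o ho).1 hzo)
    exact Nat.le_of_mul_le_mul_right (hI.trans ((Nat.mul_le_mul_right 128 hfam).trans hM)) (by omega)
  push Not at hbig
  have hone : ∀ y ∈ Mv, (qOrb H hV P y).card = 128 := fun y hy => by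
    have h := (horb y hy).2
    rwa [le_antisymm (hbig y hy) Nat.card_pos, mul_one] at h
  by_cases hall : ∀ z ∈ Mv, z ∈ qOrb H hV P y
  · left
    rw [← hone y hy]
    exact congrArg Finset.card (Finset.Subset.antisymm hall (horb y hy).1)
  · right
    push Not at hall
    obtain ⟨z, hz', hzy⟩ := hall
    have hne : qOrb H hV P y ≠ qOrb H hV P z := fun e => hzy (e ▸ self_mem_qOrb H hV P z)
    have h := Finset.card_le_card (Finset.union_subset (horb y hy).1 (horb z hz').1)
    rw [Finset.card_union_of_disjoint (qOrb_disjoint H hV P hne), hone y hy, hone z hz'] at h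
    omega

end CfsgLib.MinIdxU
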