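import Cfsg.Agent.Lib.MinIdxU.Four

/-!
# A small transitive set of a four-dimensional unitary group: transvections have no fixed points
-/

set_option autoImplicit false
set_option linter.unusedSectionVars false

namespace CfsgLib.MinIdxU

open CfsgLib.Classical CfsgLib.Geom
open scoped Pointwise

universe u v w

theorem line_arith {q N f : ℕ} (hq : 2 ≤ q) (hf : 1 ≤ f) (h : N = (q ^ 2 + 1) * (q ^ 3 + 1) * f) :
    q ^ 4 + q ^ 3 + q < N := by
  have h6 := Nat.mul_le_mul_left ((q ^ 2 + 1) * (q ^ 3 + 1)) hf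
  have h7 : q ^ 4 * 2 ≤ q ^ 4 * q := Nat.mul_le_mul_left _ hq
  have h8 : q ≤ q ^ 2 := Nat.le_self_pow two_ne_zero q
  have h9 : (q ^ 2 + 1) * (q ^ 3 + 1) = q ^ 4 * q + q ^ 3 + q ^ 2 + 1 := by ring
  have h10 : 0 < q ^ 4 := Nat.pow_pos (by omega)
  rw [← h, mul_one, h9] at h6
  omega

theorem plane_arith {q f : ℕ} (hq : 2 ≤ q) (hf : f ≤ q) :
    q ^ 4 + q ^ 3 + f ≠ (q ^ 3 + 1) * f := by
  intro h
  have h6 := Nat.mul_le_mul_left (q ^ 3) hf
  have h7 : 0 < q ^ 3 := Nat.pow_pos (by omega)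
  rw [← pow_succ, show 3 + 1 = 4 from rfl] at h6
  rw [Nat.add_mul, one_mul] at h
  omega

theorem nonorth_arith {q a N s f : ℕ} (hq : 2 ≤ q) (ha : q ^ 4 = a + 1) (hN : q ^ 4 + q ^ 3 ≤ N)
    (hs : q ^ 5 ≤ s) (hf : f ≤ q) (h : N * s = a * (q ^ 3 + 1) * f) : False := by
  have h6 := Nat.mul_le_mul hN hs
  have h7 := Nat.mul_le_mul (Nat.mul_le_mul_right (q ^ 3 + 1) (show a ≤ q ^ 4 by omega)) hf
  have h8 : q ^ 5 < q ^ 9 := Nat.pow_lt_pow_right hq (by norm_num)
  rw [h] at h6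
  have e1 : (q ^ 4 + q ^ 3) * q ^ 5 = q ^ 9 + q ^ 8 := by ring
  have e2 : q ^ 4 * (q ^ 3 + 1) * q = q ^ 8 + q ^ 5 := by ring
  omega

variable {F : Type u} [Field F] [Fintype F] {q : ℕ} {hF : Fintype.card F = q ^ 2}
variable {V : Type v} [AddCommGroup V] [Module F V] [FiniteDimensional F V]
variable {B : V →ₛₗ[qFrob hF] V →ₗ[F] F} (H : IsHermSpace B)

include H in
/-- An orbit of a non-zero vector of a plane has more than `q` elements. -/
theorem two_orbit_gt (h2 : Module.finrank F V = 2) {v : V} (hv0 : v ≠ 0) :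
    q + 1 ≤ Nat.card (Set.range fun g : ↥(utGroup H) => g.1.1 v) := by
  have := finite_utGroup H
  have hq := two_le_of_card_sq hF
  have e : Nat.card (Set.range fun g : ↥(utGroup H) => g.1.1 v) =
      (MulAction.stabilizer ↥(utGroup H) v).index := by
    rw [MulAction.index_stabilizer, ← Nat.card_coe_set_eq]
    rfl
  rw [e]
  by_cases hvv : B v v = 0
  · exact line_index_ge H h2 hv0 hvv _ fun g hg => ⟨1, by rw [one_smul]; exact hg⟩
  · have hbot : MulAction.stabilizer ↥(utGroup H) v = ⊥ :=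
      (Subgroup.eq_bot_iff_forall _).2 fun g hg => Subtype.ext (eq_one_of_fix_aniso H h2 g.2 hg hvv)
    rw [hbot, Subgroup.index_bot, card_two H h2]
    have h4 : 2 * 2 ≤ q ^ 2 := by rw [sq]; exact Nat.mul_le_mul hq hq
    have h3 : q * 3 ≤ q * (q ^ 2 - 1) := Nat.mul_le_mul_left _ (by omega)
    omega

variable (hV : Gen B) (P : UPair B)
variable {X : Type w} [MulAction ↥(utGroup H) X] [Fintype X] [DecidableEq X]

/-- All transvections move the same number of points. -/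
theorem card_moved_vec {τ : F} (hτ : τ + qFrob hF τ = 0) (hτ0 : τ ≠ 0) {v : V} (hv0 : v ≠ 0)
    (hvv : B v v = 0) {c : F} (hc : c + qFrob hF c = 0) (hc0 : c ≠ 0) :
    (Finset.univ.filter fun x : X => eG H hV v 0 c • x ≠ x).card =
      (moved H hV P τ (X := X)).card := by
  obtain ⟨k, hk, hkp⟩ := ut_transitive H hV.1 hV.2 P.hpp hvv P.hp0 hv0
  rw [← card_moved_eq H hV P hc hτ hc0 hτ0]
  refine (Finset.card_equiv (MulAction.toPerm (⟨k, hk⟩ : ↥(utGroup H))) fun x => ?_).symm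
  have e : eG H hV v 0 c = ⟨k, hk⟩ * eG H hV P.p 0 c * ⟨k, hk⟩⁻¹ := by
    rw [eG_conj]
    simp [hkp]
  simp only [moved, Finset.mem_filter, Finset.mem_univ, true_and, MulAction.toPerm_apply, e]
  rw [mul_smul, mul_smul, inv_smul_smul]
  exact not_congr (MulAction.injective _).eq_iff.symm

omit P in
/-- A set of pairwise orthogonal points closed under their root groups spans a line or a plane. -/
theorem orth_set_card (hk : ∀ P : UPair B, Module.finrank F P.W = 2) (S : Finset V)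
    (hiso : ∀ u ∈ S, u ≠ 0 ∧ B u u = 0) (hsmul : ∀ (u : V) (b : F), b ≠ 0 → u ∈ S → b • u ∈ S)
    (hclosed : ∀ (Q : UPair B) (u : V), Q.p ∈ S → u ∈ S → ∀ g ∈ qSub H hV Q.p, g.1.1 u ∈ S)
    (Q : UPair B) (hv : Q.p ∈ S) (horth : ∀ u₁ ∈ S, ∀ u₂ ∈ S, B u₁ u₂ = 0) :
    S.card = q ^ 2 - 1 ∨ S.card = q ^ 4 - 1 := by
  classical
  by_cases hline : ∀ u ∈ S, ∃ b : F, u = b • Q.p
  · left
    have e : S = ((Finset.univ.filter fun b : F => b ≠ 0).image fun b => b • Q.p) := by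
      ext u
      simp only [Finset.mem_image, Finset.mem_filter, Finset.mem_univ, true_and]
      refine ⟨fun hu => ?_, ?_⟩
      · obtain ⟨b, rfl⟩ := hline u hu
        exact ⟨b, fun h => (hiso _ hu).1 (by rw [h, zero_smul]), rfl⟩
      · rintro ⟨b, hb, rfl⟩
        exact hsmul _ b hb hv
    rw [e, Finset.card_image_of_injective _ (smul_left_injective F Q.hp0), Finset.filter_ne',
      Finset.card_erase_of_mem (Finset.mem_univ _), Finset.card_univ, hF]
  · right
    push Not at hline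
    obtain ⟨u, hu, hune⟩ := hline
    obtain ⟨u0, b, hub⟩ := Q.perp_decomp H (horth _ hv _ hu)
    have hu00 : u0 ≠ 0 := fun h => hune b (by rw [hub, h, Submodule.coe_zero, zero_add])
    have huu0 : Q.form u0 u0 = 0 := by
      have h := (hiso u hu).2
      rw [hub] at h
      simpa [map_smulₛₗ, Q.pw, Q.wp H, Q.hpp, Q.form_apply] using h
    obtain ⟨R, rfl⟩ := exists_pair_at (Q.isHerm H) hu00 huu0
    obtain ⟨g, hg⟩ : ∃ g : F × F → V, g = fun ab => ab.1 • (R.p : V) + ab.2 • Q.p := ⟨_, rfl⟩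
    have hgi : Function.Injective g := by
      intro ab cd e
      rw [hg] at e
      have e1 := congrArg (fun z => Q.split H z) e
      have key : ∀ (c d : F), Q.split H (c • (R.p : V) + d • Q.p) = (c • R.p, d, 0) := fun c d => by
        rw [← (Q.split H).eq_symm_apply, Q.split_symm_apply H]
        simp
      simp only [key, Prod.ext_iff] at e1
      exact Prod.ext (smul_left_injective F hu00 e1.1) e1.2.1
    have hryp : B (R.r : V) (R.p : V) = 1 := R.hrp (Q.isHerm H)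
    have hback : ∀ c d : F, (c, d) ≠ 0 → c • (R.p : V) + d • Q.p ∈ S := by
      intro c d hcd
      by_cases hc : c = 0
      · subst hc
        rw [zero_smul, zero_add]
        exact hsmul _ d (fun h => hcd (by rw [h]; rfl)) hv
      obtain ⟨l, hl⟩ : ∃ l, l = qFrob hF (b - d / c) := ⟨_, rfl⟩
      obtain ⟨e, he⟩ := exists_ok H Q.hpp (Q.pw (l • R.r))
      have h1 := hclosed Q u hv hu _ (eG_mem_qSub H hV he)
      have h2 : (eG H hV Q.p ((l • R.r : Q.W) : V) e).1.1 u = (R.p : V) + (d / c) • Q.p := by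
        rw [eG_coe, eich_apply H he, hub]
        simp only [map_add, map_smul, map_smulₛₗ, LinearMap.smul_apply, SetLike.val_smul, smul_eq_mul,
          Q.pw, Q.hpp, Q.wp H, hryp, hl, H.invol]
        module
      rw [h2] at h1
      have h3 := hsmul _ c hc h1
      rwa [smul_add, smul_smul, mul_div_cancel₀ _ hc] at h3
    have e : S = ((Finset.univ.filter fun ab : F × F => ab ≠ 0).image g) := by
      ext z
      simp only [Finset.mem_image, Finset.mem_filter, Finset.mem_univ, true_and]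
      refine ⟨fun hz => ?_, ?_⟩
      · obtain ⟨z0, d, hzd⟩ := Q.perp_decomp H (horth _ hv _ hz)
        have h1 : Q.form R.p z0 = 0 := by
          have h := horth _ hu _ hz
          rw [hub, hzd] at h
          simpa [map_smulₛₗ, Q.pw, Q.wp H, Q.hpp, Q.form_apply] using h
        have h2 := two_decomp (Q.isHerm H) R (hk Q) z0
        rw [h1, zero_smul, add_zero] at h2
        refine ⟨(Q.form R.r z0, d), fun h => (hiso z hz).1 ?_, ?_⟩
        · obtain ⟨ha', hb'⟩ := Prod.mk.inj h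
          rw [hzd, h2, ha', hb']
          simp
        · rw [hg, hzd]
          conv_rhs => rw [h2]
          rfl
      · rintro ⟨⟨c, d⟩, hcd, rfl⟩
        rw [hg]
        exact hback c d hcd
    rw [e, Finset.card_image_of_injective _ hgi, Finset.filter_ne',
      Finset.card_erase_of_mem (Finset.mem_univ _), Finset.card_univ, Fintype.card_prod, hF]
    congr 1; ring

omit P in
/-- Two non-orthogonal points give at least `q⁵` of them. -/
theorem nonorth_set_card (hk : ∀ P : UPair B, Module.finrank F P.W = 2) (S : Finset V)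
    (hiso : ∀ u ∈ S, u ≠ 0 ∧ B u u = 0) (hsmul : ∀ (u : V) (b : F), b ≠ 0 → u ∈ S → b • u ∈ S)
    (hclosed : ∀ (Q : UPair B) (u : V), Q.p ∈ S → u ∈ S → ∀ g ∈ qSub H hV Q.p, g.1.1 u ∈ S)
    {u₁ u₂ : V} (h₁ : u₁ ∈ S) (h₂ : u₂ ∈ S) (hne : B u₁ u₂ ≠ 0) : q ^ 5 ≤ S.card := by
  classical
  have hl0 : (B u₁ u₂)⁻¹ ≠ 0 := inv_ne_zero hne
  let P2 : UPair B := ⟨u₁, (B u₁ u₂)⁻¹ • u₂, (hiso u₁ h₁).2, by simp [map_smulₛₗ, (hiso u₂ h₂).2],
    by rw [map_smul, smul_eq_mul, inv_mul_cancel₀ hne]⟩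
  have h5 : Nat.card ↥(qSub H hV P2.p) = q ^ 5 := by
    rw [card_qSub H hV P2, card_W H P2, hk P2]; ring
  rw [← h5, ← Nat.card_eq_finsetCard]
  refine Nat.card_le_card_of_injective (fun g => (⟨g.1.1.1 P2.r,
    hclosed P2 _ h₁ (hsmul _ _ hl0 h₂) g.1 g.2⟩ : {z // z ∈ S})) fun g g' e => ?_
  have e' : g.1.1.1 P2.r = g'.1.1.1 P2.r := congrArg Subtype.val e
  obtain ⟨w, c, hok, hgw⟩ := (mem_qSub H hV P2.hpp).1 g.2
  obtain ⟨w', c', hok', hgw'⟩ := (mem_qSub H hV P2.hpp).1 g'.2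
  obtain ⟨w0, c0, hok0, e0⟩ := P2.eich_norm H hok
  obtain ⟨w0', c0', hok0', e0'⟩ := P2.eich_norm H hok'
  rw [hgw, hgw', eG_coe, eG_coe, e0, e0', eich_apply H hok0, eich_apply H hok0'] at e'
  have e1 := congrArg (P2.split H) e'
  have key : ∀ (z : P2.W) (d : F), P2.split H (P2.r + B P2.p P2.r • (z : V) +
      (d * B P2.p P2.r - B (z : V) P2.r) • P2.p) = (z, d, 1) := fun z d => by
    rw [← (P2.split H).eq_symm_apply, P2.split_symm_apply H, P2.hpr, P2.wr H]
    simp only [one_smul, mul_one, sub_zero]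
    abel
  rw [key, key] at e1
  obtain ⟨e1a, e1b⟩ := Prod.mk.inj e1
  obtain ⟨e1c, -⟩ := Prod.mk.inj e1b
  refine Subtype.ext ?_
  rw [hgw, hgw']
  refine Subtype.ext ?_
  rw [eG_coe, eG_coe, e0, e0', e1a, e1c]

variable {p : ℕ} [Fact p.Prime] [CharP F p] (φ : F →+ ZMod p) (hφ : ∃ τ ∈ skewF hF, φ τ ≠ 0)
include hφ

/-- The moved incidences come in multiples of `q³`. -/
theorem cube_dvd_moved (hk : Module.finrank F P.W = 2) {m : ℕ} (hm : q = p ^ m) {τ : F}
    (hτ : τ + qFrob hF τ = 0) (hτ0 : τ ≠ 0) : q ^ 3 ∣ (moved H hV P τ (X := X)).card := by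
  classical
  have := finite_V H
  have hp : p.Prime := Fact.out
  rw [← sum_eSet_eq H hV P φ hφ hτ hτ0,
    ← Finset.sum_fiberwise_of_maps_to (fun x (hx : x ∈ eSet H hV P φ (X := X)) =>
      Finset.mem_image_of_mem (qOrb H hV P) hx)]
  refine Finset.dvd_sum fun o ho => ?_
  obtain ⟨x, hx, rfl⟩ := Finset.mem_image.1 ho
  have e : (eSet H hV P φ (X := X)).filter (fun y => qOrb H hV P y = qOrb H hV P x) = qOrb H hV P x := by
    ext y
    rw [Finset.mem_filter]
    exact ⟨fun h => h.2 ▸ self_mem_qOrb H hV P y,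
      fun h => ⟨eSet_of_qOrb H hV P φ hx h, qOrb_eq H hV P h⟩⟩
  rw [e]
  have h1 := sum_qOrb H hV P x
  have h2 := card_hbx_sq_le H hV P φ hφ hx
  have h3 := card_annx_mul H hV P φ hφ x
  have hW : Nat.card P.W = p ^ (4 * m) := by rw [card_W H P, hk, hm, ← pow_mul]; congr 1; ring
  rw [hW] at h1 h2 h3
  obtain ⟨j, -, hj⟩ := (Nat.dvd_prime_pow hp).1 (Dvd.intro_left _ h3)
  rw [hj, ← pow_add, Nat.pow_le_pow_iff_right hp.one_lt] at h2
  obtain ⟨i, hi⟩ := Nat.exists_eq_add_of_le (show j ≤ m * 2 by omega)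
  rw [hj] at h1
  refine Dvd.intro (p ^ i) ?_
  refine (Nat.eq_of_mul_eq_mul_right (Nat.pow_pos hp.pos (n := j)) ?_)
  rw [h1, hm, ← pow_mul, mul_assoc, ← pow_add, ← pow_add, ← pow_add]
  congr 1
  omega

/-- A small set: a transvection fixing a point puts its whole root group there. -/
theorem qSub_fix_of_transv (hk : Module.finrank F P.W = 2) {τ : F} (hτ : τ + qFrob hF τ = 0)
    (hτ0 : τ ≠ 0) (hsmall : Fintype.card X ≤ (moved H hV P τ (X := X)).card + q) {x : X}
    (hx : eG H hV P.p 0 τ • x = x) : ∀ g ∈ qSub H hV P.p, g • x = x := by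
  classical
  have := finite_V H
  have hq := two_le_of_card_sq hF
  have hW : Nat.card P.W = q ^ 4 := by rw [card_W H P, hk]
  have horb : (qOrb H hV P x).card ≤ q := by
    have hsub : qOrb H hV P x ⊆ (moved H hV P τ (X := X))ᶜ := fun y hy => by
      obtain ⟨g, hg, rfl⟩ := (mem_qOrb H hV P).1 hy
      have hmem : τ ∈ zsx H hV P x := ⟨hτ, hx⟩
      rw [← zs_q_smul H hV P hg] at hmem
      rw [Finset.mem_compl, moved, Finset.mem_filter]
      exact fun h => h.2 hmem.2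
    have h := Finset.card_le_card hsub
    rw [Finset.card_compl] at h
    omega
  have hzfix : ZFix H hV P x := by
    rw [zFix_iff]
    refine AddSubgroup.eq_of_le_of_card_ge (zs_le H hV P _) ?_
    rw [card_skewF]
    by_contra hlt
    push Not at hlt
    obtain ⟨τ0, hτ0', hφτ0⟩ := id hφ
    have htw := card_twists_mul hF p φ hφ (zsx H hV P x) (zs_le H hV P _)
    obtain ⟨μ, hμ, hμ0⟩ : ∃ μ : fixF hF, (∀ z ∈ zsx H hV P x, φ ((μ : F) * z) = 0) ∧ (μ : F) ≠ 0 := by
      by_contra hno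
      push Not at hno
      have h1 : Nat.card {μ : fixF hF // ∀ z ∈ zsx H hV P x, φ ((μ : F) * z) = 0} ≤ 1 := by
        rw [Finite.card_le_one_iff_subsingleton]
        exact ⟨fun a b => Subtype.ext (Subtype.ext ((hno _ a.2).trans (hno _ b.2).symm))⟩
      have h2 := Nat.mul_le_mul_right (Nat.card (zsx H hV P x)) h1
      omega
    have hsq : qFrob hF (μ : F) = μ := (mem_fixF hF).1 μ.2
    have hφ' : ∃ t ∈ skewF hF, φ.comp (AddMonoidHom.mulLeft (μ : F)) t ≠ 0 := by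
      refine ⟨(μ : F)⁻¹ * τ0, ?_, ?_⟩
      · rw [mem_skewF, map_mul, map_inv₀, hsq, ← mul_add, (mem_skewF hF).1 hτ0', mul_zero]
      · simpa [hμ0] using hφτ0
    have hxe : x ∈ eSet H hV P (φ.comp (AddMonoidHom.mulLeft (μ : F))) := by
      rw [mem_eSet]
      exact fun c hc => hμ c hc
    have h1 := card_hbx_sq_le H hV P _ hφ' hxe
    rw [hW, show q ^ 4 = q ^ 2 * q ^ 2 by ring] at h1
    have h2 := Nat.mul_self_le_mul_self_iff.1 h1
    have h3 := card_qOrb_mul H hV P x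
    rw [hW] at h3
    have h4 : (qOrb H hV P x).card * (Nat.card (hbx H hV P x) * Nat.card (zsx H hV P x)) <
        q * (q ^ 2 * q) := Nat.lt_of_le_of_lt
      (Nat.mul_le_mul horb (Nat.mul_le_mul_right _ h2))
      (Nat.mul_lt_mul_of_pos_left (Nat.mul_lt_mul_of_pos_left hlt (by positivity)) (by omega))
    nlinarith
  intro g hg
  by_contra hgx
  have hne := hbx_ne_top H hV P hzfix hg hgx
  obtain ⟨v, hv, hv0⟩ : ∃ v ∈ annx H hV P φ x, v ≠ 0 := by
    by_contra hc
    push Not at hc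
    have h := card_annx_mul H hV P φ hφ x
    rw [(AddSubgroup.eq_bot_iff_forall _).2 hc, AddSubgroup.card_bot, one_mul] at h
    exact hne (AddSubgroup.eq_top_of_card_eq _ h)
  obtain ⟨S, hS⟩ : ∃ S : Finset P.W,
      S = (Set.toFinite (Set.range fun s : ↥(utGroup (P.isHerm H)) => s.1.1 v)).toFinset := ⟨_, rfl⟩
  have hSc : q + 1 ≤ S.card := by
    rw [hS, ← Nat.card_eq_card_finite_toFinset]
    exact two_orbit_gt (P.isHerm H) hk hv0
  have hcov := cover_le H hV P φ hφ x S 1 fun z hz => by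
    rw [hS, Set.Finite.mem_toFinset] at hz
    obtain ⟨s, rfl⟩ := hz
    have hl := isLev_sHom H P s
    refine ⟨{P.sHom H s • qOrb H hV P x},
      Finset.singleton_subset_iff.2 (smul_mem_pFam H hV P hl (self_mem_pFam H hV P x)),
      Finset.card_singleton _, fun o ho => ?_⟩
    rw [Finset.mem_singleton] at ho
    subst ho
    convert annO_smul H hV P φ hl ((mem_annO_qOrb H hV P φ).2 ⟨hv0, hv⟩) using 1
    refine Subtype.ext ?_
    show _ = (1 : F)⁻¹ • _
    rw [inv_one, one_smul, P.sHom_coe H]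
  have h1 := pFam_mul_le H hV P φ hφ hzfix
  have h2 := card_moved_add_fixSet H hV P (X := X) hτ
  omega

set_option maxHeartbeats 800000 in
omit P in
/-- Below `(q + 1)(q³ + 1)` points no transvection fixes a point. -/
theorem no_fix_of_small [MulAction.IsPretransitive ↥(utGroup H) X] (hn : Module.finrank F V = 4)
    {m : ℕ} (hm : q = p ^ m) (hX : 2 ≤ Fintype.card X)
    (hlt : Fintype.card X < (q + 1) * (q ^ 3 + 1)) :
    Fintype.card X = q ^ 3 * (q + 1) ∧ ∀ (v : V) (c : F) (x : X), v ≠ 0 → B v v = 0 →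
      c + qFrob hF c = 0 → c ≠ 0 → eG H hV v 0 c • x ≠ x := by
  classical
  have := finite_V H
  have := Fintype.ofFinite V
  have hq := two_le_of_card_sq hF
  obtain ⟨τ, hτ0, hτ⟩ := exists_skew_ne_zero hF
  have hk : ∀ P : UPair B, Module.finrank F P.W = 2 := fun P => by have := P.finrank_W H; omega
  obtain ⟨P⟩ := exists_pair H hV
  obtain ⟨M, hM⟩ : ∃ M, M = (moved H hV P τ (X := X)).card := ⟨_, rfl⟩
  obtain ⟨N, hN⟩ : ∃ N, N = Fintype.card X := ⟨_, rfl⟩
  have hMN : M ≤ N := hM ▸ hN ▸ Finset.card_le_univ _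
  have hTe : (q + 1) * (q ^ 3 + 1) = q ^ 4 + q ^ 3 + q + 1 := by ring
  have hq3 : q + 1 ≤ q ^ 3 := by nlinarith [Nat.mul_le_mul hq hq]
  have hMv : M = q ^ 4 + q ^ 3 := by
    have h1 := moved_four_ge H hV P φ hφ (X := X) hX hn hτ hτ0
    obtain ⟨k, hk'⟩ := cube_dvd_moved H hV P φ hφ (X := X) (hk P) hm hτ hτ0
    rw [← hM] at h1 hk'
    have e : q ^ 4 = q ^ 3 * q := pow_succ q 3
    have hk1' : q ^ 3 * (q + 1) ≤ q ^ 3 * k := by rw [Nat.mul_add, mul_one]; omega
    have hk2' : q ^ 3 * k < q ^ 3 * (q + 2) := by rw [Nat.mul_add, mul_two]; omega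
    have hk1 : q + 1 ≤ k := Nat.le_of_mul_le_mul_left hk1' (Nat.pow_pos (by omega))
    have hk2 : k < q + 2 := Nat.lt_of_mul_lt_mul_left hk2'
    obtain rfl : k = q + 1 := by omega
    rw [Nat.mul_add, mul_one] at hk'
    omega
  obtain ⟨f, hf⟩ : ∃ f, N = M + f := Nat.exists_eq_add_of_le hMN
  have hfq : f ≤ q := by omega
  have hcount : ∀ (v : V) (c : F), v ≠ 0 → B v v = 0 → c + qFrob hF c = 0 → c ≠ 0 →
      (Finset.univ.filter fun x : X => eG H hV v 0 c • x = x).card = f := by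
    intro v c hv hvv hc hc0
    have h := Finset.card_filter_add_card_filter_not (s := (Finset.univ : Finset X))
      (fun x => eG H hV v 0 c • x = x)
    have e := card_moved_vec H hV P (X := X) hτ hτ0 hv hvv hc hc0
    rw [← hM] at e
    simp only [ne_eq] at e
    rw [Finset.card_univ, e, ← hN] at h
    omega
  rcases Nat.eq_zero_or_pos f with hf0 | hfpos
  · refine ⟨by rw [← hN, hf, hMv, hf0]; ring, fun v c x hv hvv hc hc0 hx => ?_⟩
    have h := hcount v c hv hvv hc hc0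
    rw [hf0, Finset.card_eq_zero, Finset.filter_eq_empty_iff] at h
    exact h (Finset.mem_univ x) hx
  exfalso
  have hfix : ∀ (u : V) (x : X), u ≠ 0 → B u u = 0 → eG H hV u 0 τ • x = x →
      ∀ g ∈ qSub H hV u, g • x = x := by
    intro u x hu huu hx
    obtain ⟨Q, rfl⟩ := exists_pair_at H hu huu
    refine qSub_fix_of_transv H hV Q φ hφ (hk Q) hτ hτ0 ?_ hx
    have e := card_moved_vec H hV P (X := X) hτ hτ0 Q.hp0 Q.hpp hτ hτ0
    change (moved H hV Q τ (X := X)).card = _ at e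
    omega
  obtain ⟨S, hS⟩ : ∃ S : X → Finset V, ∀ x u, u ∈ S x ↔ (u ≠ 0 ∧ B u u = 0) ∧ eG H hV u 0 τ • x = x :=
    ⟨fun x => Finset.univ.filter fun u => (u ≠ 0 ∧ B u u = 0) ∧ eG H hV u 0 τ • x = x,
      fun x u => by simp⟩
  have hmove : ∀ (g : ↥(utGroup H)) (x : X) (u : V), u ∈ S x → g.1.1 u ∈ S (g • x) := by
    intro g x u hu
    rw [hS] at hu ⊢
    refine ⟨⟨by rw [ne_eq, g.1.1.map_eq_zero_iff]; exact hu.1.1, by rw [g.1.2 u u]; exact hu.1.2⟩, ?_⟩
    have e : eG H hV (g.1.1 u) 0 τ = g * eG H hV u 0 τ * g⁻¹ := by rw [eG_conj, map_zero]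
    rw [e, mul_smul, mul_smul, inv_smul_smul, hu.2]
  have hle : ∀ (g : ↥(utGroup H)) (x : X), (S x).card ≤ (S (g • x)).card := fun g x =>
    Finset.card_le_card_of_injOn g.1.1 (fun u hu => hmove g x u hu) g.1.1.injective.injOn
  obtain ⟨x₀⟩ : Nonempty X := Fintype.card_pos_iff.1 (by omega)
  obtain ⟨s, hs⟩ : ∃ s, s = (S x₀).card := ⟨_, rfl⟩
  have hconst : ∀ x, (S x).card = s := fun x => by
    obtain ⟨g, rfl⟩ := MulAction.exists_smul_eq ↥(utGroup H) x₀ x
    exact le_antisymm ((hle g⁻¹ (g • x₀)).trans_eq (by rw [inv_smul_smul, hs])) (hs ▸ hle g x₀)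
  have hI : ∀ v : V, v ∈ (Finset.univ.filter fun u : V => u ≠ 0 ∧ B u u = 0) ↔ v ≠ 0 ∧ B v v = 0 :=
    fun v => by simp
  have hNs : N * s = (q ^ 4 - 1) * (q ^ 3 + 1) * f := by
    have h1 : ∑ x : X, (S x).card = N * s := by
      rw [Finset.sum_congr rfl fun x _ => hconst x, Finset.sum_const, Finset.card_univ, smul_eq_mul, hN]
    have h2 : ∑ x : X, (S x).card = ∑ u ∈ Finset.univ.filter (fun u : V => u ≠ 0 ∧ B u u = 0), f := by
      have e : ∀ x, S x = (Finset.univ.filter fun u : V => u ≠ 0 ∧ B u u = 0).filter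
          fun u => eG H hV u 0 τ • x = x := fun x => by ext u; rw [hS, Finset.mem_filter, hI]
      simp only [e, Finset.card_filter]
      rw [Finset.sum_comm]
      refine Finset.sum_congr rfl fun u hu => ?_
      rw [hI] at hu
      rw [← hcount u τ hu.1 hu.2 hτ hτ0, Finset.card_filter]
    have h3 : Nat.card {v : V // v ≠ 0 ∧ B v v = 0} = (q ^ 4 - 1) * (q ^ 3 + 1) := by
      rw [card_iso H, hn]
      have e : nIso q 4 = (q ^ 2 + 1) * (q ^ 3 + 1) := by simp [nIso]; ring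
      rw [e, ← mul_assoc]
      congr 1
      zify [Nat.one_le_pow 2 q (by omega), Nat.one_le_pow 4 q (by omega)]
      ring
    rw [h1, Finset.sum_const, smul_eq_mul] at h2
    rw [h2, ← h3, Nat.card_eq_fintype_card, Fintype.card_subtype]
  have hN1 : N = q ^ 4 + q ^ 3 + f := by omega
  obtain ⟨a, ha⟩ : ∃ a, q ^ 4 = a + 1 := ⟨q ^ 4 - 1, by have := Nat.one_le_pow 4 q (by omega); omega⟩
  rw [ha, Nat.add_sub_cancel] at hNs
  have hsmul : ∀ (x : X) (u : V) (b : F), b ≠ 0 → u ∈ S x → b • u ∈ S x := by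
    intro x u b hb hu
    rw [hS] at hu ⊢
    refine ⟨⟨smul_ne_zero hb hu.1.1, by simp [map_smulₛₗ, hu.1.2]⟩, ?_⟩
    have e : eG H hV (b • u) 0 τ = eG H hV u 0 (qFrob hF b * b * τ) := by
      refine Subtype.ext ?_
      rw [eG_coe, eG_coe, eich_smul H hb hu.1.2, smul_zero]
    rw [e]
    refine hfix u x hu.1.1 hu.1.2 hu.2 _ (eG_mem_qSub H hV (transv_ok H hu.1.2 ?_))
    rw [map_mul, map_mul, H.invol]; linear_combination (qFrob hF b * b) * hτ
  have hclosed : ∀ (x : X) (Q : UPair B) (u : V), Q.p ∈ S x → u ∈ S x →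
      ∀ g ∈ qSub H hV Q.p, g.1.1 u ∈ S x := by
    intro x Q u hp hu g hg
    have h := hmove g x u hu
    rw [hS] at hp
    rwa [hfix _ _ hp.1.1 hp.1.2 hp.2 g hg] at h
  obtain ⟨x, hxne⟩ : ∃ x, (S x).Nonempty := by
    refine ⟨x₀, Finset.card_pos.1 (Nat.pos_of_ne_zero fun h0 => ?_)⟩
    rw [← hs] at h0
    rw [h0, mul_zero] at hNs
    have : 0 < a * (q ^ 3 + 1) * f := by
      have : 0 < a := by nlinarith [Nat.mul_le_mul (Nat.mul_le_mul hq hq) (Nat.mul_le_mul hq hq)]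
      positivity
    omega
  obtain ⟨v, hv⟩ := hxne
  have hv' := (hS x v).1 hv
  obtain ⟨Q, rfl⟩ := exists_pair_at H hv'.1.1 hv'.1.2
  have hiso : ∀ u ∈ S x, u ≠ 0 ∧ B u u = 0 := fun u hu => ((hS x u).1 hu).1
  have hN2 := hconst x
  by_cases horth : ∀ u₁ ∈ S x, ∀ u₂ ∈ S x, B u₁ u₂ = 0
  · rcases orth_set_card H hV hk (S x) hiso (hsmul x) (hclosed x) Q hv horth with h | h
    · obtain ⟨b, hb⟩ : ∃ b, q ^ 2 = b + 1 := ⟨q ^ 2 - 1, by have := Nat.one_le_pow 2 q (by omega); omega⟩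
      rw [← hN2, h, hb, Nat.add_sub_cancel] at hNs
      have hab : a = b * (q ^ 2 + 1) := by nlinarith
      have hb0 : 0 < b := by nlinarith
      have h5 : N = (q ^ 2 + 1) * (q ^ 3 + 1) * f :=
        Nat.eq_of_mul_eq_mul_right hb0 (by rw [hNs, hab, hb]; ring)
      have := line_arith hq hfpos h5
      omega
    · rw [← hN2, h, ha, Nat.add_sub_cancel] at hNs
      have ha0 : 0 < a := by nlinarith [Nat.mul_le_mul (Nat.mul_le_mul hq hq) (Nat.mul_le_mul hq hq)]
      have h5 : N = (q ^ 3 + 1) * f := Nat.eq_of_mul_eq_mul_right ha0 (by rw [hNs]; ring)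
      exact plane_arith hq hfq (hN1.symm.trans h5)
  · push Not at horth
    obtain ⟨u₁, h₁, u₂, h₂, hne⟩ := horth
    have hbig := nonorth_set_card H hV hk (S x) hiso (hsmul x) (hclosed x) h₁ h₂ hne
    rw [hN2] at hbig
    exact nonorth_arith hq ha (by omega) hbig hfq hNs

end CfsgLib.MinIdxU
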