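import Cfsg.Agent.Lib.MinIdxU.FiveTwo
import Cfsg.Agent.Lib.MinIdxU.FourMoved

/-!
# Minimal index in `SU₅(2)`: a transitive set has at least 165 points
-/

set_option autoImplicit false
set_option linter.unusedSectionVars false

namespace CfsgLib.MinIdxU

open CfsgLib.Classical CfsgLib.Geom
open scoped LinearAlgebra.Projectivization
open Projectivization (mk mk_eq_mk_iff' mk_rep rep_nonzero)

universe u v w

variable {F : Type u} [Field F] [Fintype F] {q : ℕ} {hF : Fintype.card F = q ^ 2}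
variable {V : Type u} [AddCommGroup V] [Module F V] [FiniteDimensional F V]
variable {B : V →ₛₗ[qFrob hF] V →ₗ[F] F} (H : IsHermSpace B) (hV : Gen B) (hq : q = 2)
  (h5 : Module.finrank F V = 5)
variable {X : Type w} [MulAction ↥(utGroup H) X] [Fintype X] [DecidableEq X]
include H hV hq h5

omit h5 in
/-- The transvection only depends on the point. -/
theorem tau_smul {v : V} (hvv : B v v = 0) {b : F} (hb : b ≠ 0) :
    eG H hV (b • v) 0 1 = eG H hV v 0 1 := by
  refine Subtype.ext ?_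
  rw [eG_coe, eG_coe, eich_smul H hb hvv, smul_zero, norm_two (hF := hF) hq hb, one_mul]

/-- Counting incidences of transvections and fixed points. -/
theorem five_two_cases [MulAction.IsPretransitive ↥(utGroup H) X] (hX : 2 ≤ Fintype.card X)
    (hlt : Fintype.card X < 165) :
    Fintype.card X = 128 ∨ Fintype.card X = 160 ∨ (Fintype.card X = 132 ∧
      (∀ x : X, ∀ S : Finset V, (∀ u, u ∈ S ↔ (u ≠ 0 ∧ B u u = 0) ∧ eG H hV u 0 1 • x = x) →
        S.card = 15) ∧
      ∀ (v : V), v ≠ 0 → B v v = 0 →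
        (Finset.univ.filter fun x : X => eG H hV v 0 1 • x = x).card = 4) := by
  classical
  have := finite_V H
  have := Fintype.ofFinite V
  have h2F := char_two_of_q hF hq
  have h11 : (1 : F) + qFrob hF 1 = 0 := by rw [map_one]; linear_combination h2F
  obtain ⟨P⟩ := exists_pair H hV
  have hM : (moved H hV P 1 (X := X)).card = 128 := by
    rcases moved_five_two H hV hq h5 P (X := X) hX with h | h
    · exact h
    · have := Finset.card_le_univ (moved H hV P 1 (X := X))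
      omega
  obtain ⟨f, hf⟩ : ∃ f, Fintype.card X = 128 + f :=
    Nat.exists_eq_add_of_le (hM ▸ Finset.card_le_univ _)
  have hcount : ∀ v : V, v ≠ 0 → B v v = 0 →
      (Finset.univ.filter fun x : X => eG H hV v 0 1 • x = x).card = f := by
    intro v hv hvv
    have h := Finset.card_filter_add_card_filter_not (s := (Finset.univ : Finset X))
      (fun x => eG H hV v 0 1 • x = x)
    have e := card_moved_vec H hV P (X := X) h11 one_ne_zero hv hvv h11 one_ne_zero
    rw [hM] at e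
    simp only [ne_eq] at e
    rw [Finset.card_univ, e] at h
    omega
  obtain ⟨S, hS⟩ : ∃ S : X → Finset V, ∀ x u, u ∈ S x ↔ (u ≠ 0 ∧ B u u = 0) ∧ eG H hV u 0 1 • x = x :=
    ⟨fun x => Finset.univ.filter fun u => (u ≠ 0 ∧ B u u = 0) ∧ eG H hV u 0 1 • x = x,
      fun x u => by simp⟩
  have hmove : ∀ (g : ↥(utGroup H)) (x : X) (u : V), u ∈ S x → g.1.1 u ∈ S (g • x) := by
    intro g x u hu
    rw [hS] at hu ⊢
    refine ⟨⟨by rw [ne_eq, g.1.1.map_eq_zero_iff]; exact hu.1.1, by rw [g.1.2 u u]; exact hu.1.2⟩, ?_⟩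
    have e : eG H hV (g.1.1 u) 0 1 = g * eG H hV u 0 1 * g⁻¹ := by rw [eG_conj, map_zero]
    rw [e, mul_smul, mul_smul, inv_smul_smul, hu.2]
  obtain ⟨x₀⟩ : Nonempty X := Fintype.card_pos_iff.1 (by omega)
  have hle : ∀ (g : ↥(utGroup H)) (x : X), (S x).card ≤ (S (g • x)).card := fun g x =>
    Finset.card_le_card_of_injOn g.1.1 (fun u hu => hmove g x u hu) g.1.1.injective.injOn
  obtain ⟨s, hs⟩ : ∃ s, s = (S x₀).card := ⟨_, rfl⟩
  have hconst : ∀ x, (S x).card = s := fun x => by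
    obtain ⟨g, rfl⟩ := MulAction.exists_smul_eq ↥(utGroup H) x₀ x
    exact le_antisymm ((hle g⁻¹ (g • x₀)).trans_eq (by rw [inv_smul_smul, hs])) (hs ▸ hle g x₀)
  have hI : Nat.card {v : V // v ≠ 0 ∧ B v v = 0} = 495 := by
    rw [card_iso H, h5, hq]; simp [nIso]
  have hNs : Fintype.card X * s = 495 * f := by
    have h1 : ∑ x : X, (S x).card = Fintype.card X * s := by
      rw [Finset.sum_congr rfl fun x _ => hconst x, Finset.sum_const, Finset.card_univ, smul_eq_mul]
    have h2 : ∑ x : X, (S x).card = ∑ u ∈ Finset.univ.filter (fun u : V => u ≠ 0 ∧ B u u = 0), f := by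
      have e : ∀ x, S x = (Finset.univ.filter fun u : V => u ≠ 0 ∧ B u u = 0).filter
          fun u => eG H hV u 0 1 • x = x := fun x => by
        ext u; rw [hS, Finset.mem_filter, Finset.mem_filter]; simp
      simp only [e, Finset.card_filter]
      rw [Finset.sum_comm]
      refine Finset.sum_congr rfl fun u hu => ?_
      rw [Finset.mem_filter] at hu
      rw [← hcount u hu.2.1 hu.2.2, Finset.card_filter]
    rw [h1, Finset.sum_const, smul_eq_mul] at h2
    rw [h2, ← hI, Nat.card_eq_fintype_card, Fintype.card_subtype]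
  -- scalars act freely on the set of a point
  obtain ⟨k, hk⟩ : 3 ∣ s := by
    have h := card_points (F := F) (↑(S x₀) : Set V) fun v a ha => by
      simp only [Finset.mem_coe, hS]
      constructor
      · rintro ⟨⟨h0, h1⟩, h2⟩
        have h1' : B v v = 0 := by simpa [map_smulₛₗ, ha] using h1
        exact ⟨⟨fun h => h0 (by rw [h, smul_zero]), h1'⟩, by rwa [← tau_smul H hV hq h1' ha]⟩
      · rintro ⟨⟨h0, h1⟩, h2⟩
        exact ⟨⟨smul_ne_zero ha h0, by simp [map_smulₛₗ, h1]⟩, by rwa [tau_smul H hV hq h1 ha]⟩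
    rw [hF, show q ^ 2 - 1 = 3 by rw [hq]; norm_num] at h
    refine Dvd.intro_left _ (h.symm.trans ?_)
    rw [hs, ← Nat.card_eq_finsetCard]
    exact Nat.card_congr (Equiv.subtypeEquivRight fun v =>
      ⟨fun hv => Finset.mem_coe.1 hv.2, fun hv => ⟨((hS x₀ v).1 hv).1.1, Finset.mem_coe.2 hv⟩⟩)
  subst hk
  rw [hf] at hNs hlt ⊢
  have hf37 : f < 37 := by omega
  have hres : f = 0 ∨ f = 32 ∨ (f = 4 ∧ k = 5) := by interval_cases f <;> omega
  rcases hres with rfl | rfl | ⟨rfl, rfl⟩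
  · exact Or.inl (by omega)
  · exact Or.inr (Or.inl (by omega))
  · refine Or.inr (Or.inr ⟨by omega, fun x S' hS' => ?_, hcount⟩)
    have e : S' = S x := by ext u; rw [hS, hS']
    rw [e, hconst]

/-- The degree 132 is impossible. -/
theorem five_two_no_132 (x₀ : X)
    (hS15 : ∀ S : Finset V, (∀ u, u ∈ S ↔ (u ≠ 0 ∧ B u u = 0) ∧ eG H hV u 0 1 • x₀ = x₀) →
      S.card = 15)
    (hfix : ∀ (v : V), v ≠ 0 → B v v = 0 →
      (Finset.univ.filter fun x : X => eG H hV v 0 1 • x = x).card = 4) : False := by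
  classical
  have := finite_V H
  have := finite_utGroup H
  have := Fintype.ofFinite V
  obtain ⟨S, hS⟩ : ∃ S : Finset V, ∀ u, u ∈ S ↔ (u ≠ 0 ∧ B u u = 0) ∧ eG H hV u 0 1 • x₀ = x₀ :=
    ⟨Finset.univ.filter fun u => (u ≠ 0 ∧ B u u = 0) ∧ eG H hV u 0 1 • x₀ = x₀, fun u => by simp⟩
  have hS' := hS15 S hS
  have hsmul : ∀ (u : V) (b : F), b ≠ 0 → u ∈ S → b • u ∈ S := by
    intro u b hb hu
    rw [hS] at hu ⊢
    exact ⟨⟨smul_ne_zero hb hu.1.1, by simp [map_smulₛₗ, hu.1.2]⟩, by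
      rw [tau_smul H hV hq hu.1.2 hb]; exact hu.2⟩
  have hinv : ∀ (g : ↥(utGroup H)) (u : V), g • x₀ = x₀ → u ∈ S → g.1.1 u ∈ S := by
    intro g u hg hu
    rw [hS] at hu ⊢
    refine ⟨⟨by rw [ne_eq, g.1.1.map_eq_zero_iff]; exact hu.1.1, by rw [g.1.2 u u]; exact hu.1.2⟩, ?_⟩
    have e : eG H hV (g.1.1 u) 0 1 = g * eG H hV u 0 1 * g⁻¹ := by rw [eG_conj, map_zero]
    rw [e, mul_smul, mul_smul, inv_smul_eq_iff.2 hg.symm, hu.2, hg]
  obtain ⟨v₀, hv₀⟩ : S.Nonempty := Finset.card_pos.1 (by omega)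
  obtain ⟨⟨hv0, hv00⟩, hvfix⟩ := (hS v₀).1 hv₀
  obtain ⟨P, rfl⟩ := exists_pair_at H hv0 hv00
  -- images of the base point fixed by the transvection
  have himg : ∀ (g : ↥(utGroup H)) (a : F), g.1.1 P.p = a • P.p →
      g • x₀ ∈ Finset.univ.filter fun x : X => eG H hV P.p 0 1 • x = x := by
    intro g a hg
    have ha : a ≠ 0 := fun h => P.hp0 (g.1.1.map_eq_zero_iff.1 (by rw [hg, h, zero_smul]))
    have e : g * eG H hV P.p 0 1 * g⁻¹ = eG H hV P.p 0 1 := by
      rw [eG_conj, map_zero, hg, tau_smul H hV hq P.hpp ha]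
    refine Finset.mem_filter.2 ⟨Finset.mem_univ _, ?_⟩
    conv_lhs => rw [← e, mul_smul, mul_smul, inv_smul_smul, hvfix]
  have hk3 := finrank_W_five H hq h5 P
  -- points of the set are orthogonal
  have horth2 : ∀ u ∈ S, ∀ u' ∈ S, B u u' = 0 := by
    intro u hu u' hu'
    by_contra hne
    obtain ⟨⟨hu0, huu⟩, hufix⟩ := (hS u).1 hu
    obtain ⟨P', rfl⟩ := exists_pair_at H hu0 huu
    have h128 : Nat.card ↥(qSub H hV P'.p) = 128 := by
      rw [card_qSub H hV P', card_W H P', finrank_W_five H hq h5 P', hq]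
      norm_num
    obtain ⟨⟨-, hu'u'⟩, -⟩ := (hS u').1 hu'
    have hl0 : (B P'.p u')⁻¹ ≠ 0 := inv_ne_zero hne
    let P2 : UPair B := ⟨P'.p, (B P'.p u')⁻¹ • u', P'.hpp, by simp [map_smulₛₗ, hu'u'],
      by rw [map_smul, smul_eq_mul, inv_mul_cancel₀ hne]⟩
    have horbit : Nat.card (MulAction.orbit ↥(qSub H hV P'.p) x₀) ≤ 4 := by
      rw [← hfix P'.p P'.hp0 P'.hpp, Nat.card_coe_set_eq, ← Set.ncard_coe_finset]
      refine Set.ncard_le_ncard ?_ (Set.toFinite _)
      rintro _ ⟨⟨g, hg⟩, rfl⟩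
      obtain ⟨w, c, hok, rfl⟩ := (mem_qSub H hV P'.hpp).1 hg
      refine Finset.mem_filter.2 ⟨Finset.mem_univ _, ?_⟩
      have e : eG H hV P'.p w c * eG H hV P'.p 0 1 * (eG H hV P'.p w c)⁻¹ = eG H hV P'.p 0 1 := by
        rw [eG_conj, map_zero, eG_fix_p H hV P' hok]
      conv_lhs => rw [← e, mul_smul, mul_smul]
      show _ • _ • (eG H hV P'.p w c)⁻¹ • eG H hV P'.p w c • x₀ = _
      rw [inv_smul_smul, hufix]
      rfl
    have hst : Nat.card (MulAction.stabilizer ↥(qSub H hV P'.p) x₀) ≤ 15 := by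
      rw [← hS', ← Nat.card_eq_finsetCard]
      refine Nat.card_le_card_of_injective (fun g => (⟨g.1.1.1.1 P2.r,
        hinv g.1.1 _ g.2 (hsmul _ _ hl0 hu')⟩ : {z // z ∈ S})) fun g g' e => ?_
      have e' : g.1.1.1.1 P2.r = g'.1.1.1.1 P2.r := congrArg Subtype.val e
      obtain ⟨w, c, hok, hgw⟩ := (mem_qSub H hV P2.hpp).1 g.1.2
      obtain ⟨w', c', hok', hgw'⟩ := (mem_qSub H hV P2.hpp).1 g'.1.2
      obtain ⟨w0, c0, hok0, e0⟩ := P2.eich_norm H hok
      obtain ⟨w0', c0', hok0', e0'⟩ := P2.eich_norm H hok'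
      rw [hgw, hgw', eG_coe, eG_coe, e0, e0', eich_apply H hok0, eich_apply H hok0'] at e'
      have e1 := congrArg (P2.split H) e'
      have key : ∀ (z : P2.W) (d : F), P2.split H (P2.r + B P2.p P2.r • (z : V) +
          (d * B P2.p P2.r - B (z : V) P2.r) • P2.p) = (z, d, 1) := fun z d => by
        rw [← (P2.split H).eq_symm_apply, P2.split_symm_apply H, P2.hpr, P2.wr H]
        simp only [one_smul, mul_one, sub_zero]
        abel
      rw [key, key] at e1
      obtain ⟨e1a, e1b⟩ := Prod.mk.inj e1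
      obtain ⟨e1c, -⟩ := Prod.mk.inj e1b
      refine Subtype.ext (Subtype.ext ?_)
      rw [hgw, hgw']
      refine Subtype.ext ?_
      rw [eG_coe, eG_coe, e0, e0', e1a, e1c]
    have h := Nat.card_congr (MulAction.orbitProdStabilizerEquivGroup ↥(qSub H hV P'.p) x₀)
    rw [Nat.card_prod, h128] at h
    have := Nat.mul_le_mul horbit hst
    omega
  have horth : ∀ u ∈ S, B P.p u = 0 := fun u hu => horth2 _ hv₀ u hu
  have hdec : ∀ u ∈ S, ∃ (w : P.W) (b : F), u = (w : V) + b • P.p ∧ P.form w w = 0 := by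
    intro u hu
    obtain ⟨w, b, rfl⟩ := P.perp_decomp H (horth u hu)
    refine ⟨w, b, rfl, ?_⟩
    have h := ((hS _).1 hu).1.2
    simpa [map_smulₛₗ, P.pw, P.wp H, P.hpp, P.form_apply] using h
  -- a second point
  obtain ⟨w1, b1, hu1, hw1, hw10⟩ : ∃ (w : P.W) (b : F), (w : V) + b • P.p ∈ S ∧
      P.form w w = 0 ∧ w ≠ 0 := by
    by_contra hno
    have hall : ∀ u ∈ S, ∃ b : F, b • P.p = u := by
      intro u hu
      obtain ⟨w, b, rfl, hw⟩ := hdec u hu
      by_cases h0 : w = 0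
      · exact ⟨b, by rw [h0, Submodule.coe_zero, zero_add]⟩
      · exact absurd ⟨w, b, hu, hw, h0⟩ hno
    choose g hg using hall
    have hle : S.card ≤ Nat.card F := by
      rw [← Nat.card_eq_finsetCard]
      refine Nat.card_le_card_of_injective (fun u : {u // u ∈ S} => g u.1 u.2) fun u u' e => ?_
      refine Subtype.ext ?_
      rw [← hg u.1 u.2, ← hg u'.1 u'.2]
      exact congrArg (· • P.p) e
    rw [hS', Nat.card_eq_fintype_card, hF, hq] at hle
    omega
  obtain ⟨R, hR⟩ := exists_pair_at (P.isHerm H) hw10 hw1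
  obtain ⟨e0, he0, hspan⟩ := exists_line (P.isHerm H) hk3 R
  have hprop : ∀ u ∈ S, ∃ c b : F, u = c • (w1 : V) + b • P.p := by
    intro u hu
    obtain ⟨w, b, rfl, hw⟩ := hdec u hu
    have h1 := horth2 _ hu1 _ hu
    simp [map_smulₛₗ, P.pw, P.wp H, P.hpp] at h1
    obtain ⟨z, t, hz⟩ := R.perp_decomp (P.isHerm H) (w := w) (by rw [hR, P.form_apply]; exact h1)
    obtain ⟨s, rfl⟩ := hspan z
    have hs0 : s = 0 := by
      rw [hz] at hw
      simp [map_smulₛₗ, R.pw, R.wp (P.isHerm H), R.hpp, he0] at hw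
      exact hw
    subst hs0
    rw [zero_smul, Submodule.coe_zero, zero_add, hR] at hz
    exact ⟨t, b, by rw [hz]; rfl⟩
  -- nine images
  obtain ⟨c1, hc1, hcc1⟩ := exists_perp_unit (P.isHerm H) hk3 hq hw10 hw1
  have hex : ∀ ω : isoPoints (P.isHerm H), ∃ g a, ∃ _ : IsLev H P g a, ∃ t : F, t ≠ 0 ∧
      g.1.1 (w1 : V) = t • (ω.1.rep : V) := by
    intro ω
    have hr0 := rep_nonzero ω.1
    have hrr : P.form ω.1.rep ω.1.rep = 0 := ω.2
    obtain ⟨c', hc', hcc'⟩ := exists_perp_unit (P.isHerm H) hk3 hq hr0 hrr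
    obtain ⟨h, hh, -⟩ := isom_transitive_pairs (P.isHerm H) hk3 hw10 hw1 hc1 hcc1 hr0 hrr hc' hcc'
    obtain ⟨g, a, hg, hgh⟩ := exists_lev_of_isom H hq h5 P h
    have hsa := hg.sigma_ne
    refine ⟨g, a, hg, (qFrob hF a)⁻¹, inv_ne_zero hsa, ?_⟩
    have e := congrArg Subtype.val (hgh w1)
    rw [hh] at e
    change qFrob hF a • g.1.1 (w1 : V) = _ at e
    rw [← e, inv_smul_smul₀ hsa]
  choose g a hg t ht hgt using hex
  have hinj : Function.Injective fun ω : isoPoints (P.isHerm H) =>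
      (⟨g ω • x₀, himg (g ω) (a ω) (hg ω).2.1⟩ :
        {x // x ∈ Finset.univ.filter fun x : X => eG H hV P.p 0 1 • x = x}) := by
    intro ω ω' e
    have e' : g ω • x₀ = g ω' • x₀ := congrArg Subtype.val e
    have hkx : ((g ω')⁻¹ * g ω) • x₀ = x₀ := by rw [mul_smul, e', inv_smul_smul]
    obtain ⟨c, b, hcb⟩ := hprop _ (hinv _ _ hkx hu1)
    rw [ut_mul_apply, ut_inv_apply, LinearEquiv.symm_apply_eq] at hcb
    simp only [map_add, map_smul, hgt, (hg ω).2.1, (hg ω').2.1, smul_smul] at hcb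
    have h1 := congrArg (fun z => (P.split H z).1) hcb
    have e1 : ∀ (z : P.W) (d : F), P.split H ((z : V) + d • P.p) = (z, d, 0) := fun z d => by
      rw [← (P.split H).eq_symm_apply, P.split_symm_apply H]; simp
    have e2 : ∀ (z : P.W) (d : F), d • (z : V) = ((d • z : P.W) : V) := fun z d => rfl
    simp only [e2, e1] at h1
    refine Subtype.ext ?_
    rw [← mk_rep ω.1, ← mk_rep ω'.1, mk_eq_mk_iff']
    exact ⟨(t ω)⁻¹ * (c * t ω'), by rw [mul_smul, ← h1, inv_smul_smul₀ (ht ω)]⟩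
  have h9 := Nat.card_le_card_of_injective _ hinj
  rw [card_isoPoints (P.isHerm H) hk3, Nat.card_eq_finsetCard, hfix P.p P.hp0 P.hpp, hq] at h9
  norm_num at h9

/-- Minimal index in `SU₅(2)`. -/
theorem minIdx_five_two : MinIdx ↥(utGroup H) (nIso q 5) := by
  classical
  have := finite_utGroup H
  refine minIdx_of_transitive fun K _ _ hX => ?_
  rw [show nIso q 5 = 165 by rw [hq]; simp [nIso]]
  by_contra hlt
  push Not at hlt
  have hidx : K.index = Fintype.card (↥(utGroup H) ⧸ K) := by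
    rw [Subgroup.index_eq_card, Nat.card_eq_fintype_card]
  rcases five_two_cases H hV hq h5 hX hlt with h | h | ⟨h, hS, hf⟩
  · have := index_mod_eleven H hV hq h5 K (by rw [hidx, h]; norm_num)
    rw [hidx, h] at this
    norm_num at this
  · have := index_mod_eleven H hV hq h5 K (by rw [hidx, h]; norm_num)
    rw [hidx, h] at this
    norm_num at this
  · exact five_two_no_132 H hV hq h5 _ (hS ((1 : ↥(utGroup H)) : ↥(utGroup H) ⧸ K)) hf

end CfsgLib.MinIdxU
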