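import Cfsg.Agent.Lib.MinIdxU.FourLineGroup

/-!
# A transitive set of a four-dimensional unitary group has at least `(q + 1)(q³ + 1)` points
-/

set_option autoImplicit false
set_option linter.unusedSectionVars false

namespace CfsgLib.MinIdxU

open CfsgLib.Classical CfsgLib.Geom
open scoped Pointwise

universe u v w

variable {F : Type u} [Field F] [Fintype F] {q : ℕ} {hF : Fintype.card F = q ^ 2}
variable {V : Type v} [AddCommGroup V] [Module F V] [FiniteDimensional F V]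
variable {B : V →ₛₗ[qFrob hF] V →ₗ[F] F} (H : IsHermSpace B) (hV : Gen B)
variable {X : Type w} [MulAction ↥(utGroup H) X] [Fintype X] [DecidableEq X]

/-- The fixed field of `q = 2`. -/
theorem fix_two (hq : q = 2) {a : F} (ha : qFrob hF a = a) (ha0 : a ≠ 0) : a = 1 := by
  rw [qFrob_apply, hq, sq] at ha
  exact mul_left_cancel₀ ha0 (ha.trans (mul_one a).symm)

theorem char_two_of_q (hF : Fintype.card F = q ^ 2) (hq : q = 2) : (2 : F) = 0 := by
  have h4 := FiniteField.cast_card_eq_zero F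
  rw [hF, hq] at h4
  push_cast at h4
  exact pow_eq_zero_iff two_ne_zero |>.1 (show (2 : F) ^ 2 = 0 by linear_combination h4)

variable (hfree : ∀ (v : V) (c : F) (x : X), v ≠ 0 → B v v = 0 → c + qFrob hF c = 0 → c ≠ 0 →
  eG H hV v 0 c • x ≠ x)
include hfree

/-- For `q = 2` the root parameters fixing a point are closed under scalars. -/
theorem two_line_type {p : ℕ} [Fact p.Prime] [CharP F p] (φ : F →+ ZMod p)
    (hφ : ∃ τ ∈ skewF hF, φ τ ≠ 0) (hq : q = 2) (hN : Fintype.card X = q ^ 3 * (q + 1))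
    (P : UPair B) (hk : ∀ Q : UPair B, Module.finrank F Q.W = 2) (R : UPair P.form) {x : X}
    {c1 c2 β1 β2 : F} (h1 : (c1, β1, (1 : F)) ∈ lineD H hV P R x)
    (h2 : (c2, β2, (1 : F)) ∈ lineD H hV P R x) (hne : β1 ≠ β2)
    {u w : V} {c : F} {x' : X} (hu0 : u ≠ 0) (hw : EichOK B u w c) (hfix : eG H hV u w c • x' = x')
    (a : F) : ∃ c', EichOK B u (a • w) c' ∧ eG H hV u (a • w) c' • x' = x' := by
  classical
  have := finite_V H
  have h2F := char_two_of_q hF hq
  have hvv : B (R.p : V) (R.p : V) = 0 := R.hpp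
  obtain ⟨α, hα1, hα2⟩ : ∃ α : F, α ≠ qFrob hF β1 ∧ α ≠ qFrob hF β2 := by
    have hlt : ({qFrob hF β1, qFrob hF β2} : Finset F).card < Fintype.card F := by
      refine lt_of_le_of_lt Finset.card_le_two ?_
      rw [hF, hq]; norm_num
    rw [← Finset.card_univ] at hlt
    obtain ⟨α, hα⟩ := Finset.exists_mem_notMem_of_card_lt_card hlt
    simp only [Finset.mem_insert, Finset.mem_singleton, not_or] at hα
    exact ⟨α, hα.2⟩
  obtain ⟨w', hw'⟩ : ∃ w', w' = (R.p : V) + α • P.p := ⟨_, rfl⟩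
  have helt : ∀ c β : F, (c, β, (1 : F)) ∈ lineD H hV P R x → α ≠ qFrob hF β →
      EichOK B w' ((α + qFrob hF β) • P.p) 1 ∧ eG H hV w' ((α + qFrob hF β) • P.p) 1 • x = x := by
    intro c β hm hne'
    obtain ⟨⟨hc, hone⟩, hx⟩ := id hm
    simp only at hc hone hx
    obtain ⟨δ, hδ⟩ : ∃ δ, δ = α + qFrob hF β := ⟨_, rfl⟩
    have hδ0 : δ ≠ 0 := by
      rw [hδ]
      exact fun h => hne' (by linear_combination h - (qFrob hF β) * h2F)
    have hn1 : qFrob hF δ * δ = 1 := by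
      have h := FiniteField.pow_card_sub_one_eq_one δ hδ0
      rw [hF, hq] at h
      rw [qFrob_apply, hq]
      simpa [pow_succ] using h
    have hz := lineD_free H hV P R hfree _ hm (by
      intro h
      simp at h)
    simp only [qd, mul_one] at hz
    have hfixd : c + qFrob hF β * β = 1 := by
      refine fix_two (hF := hF) hq ?_ hz
      rw [map_add, map_mul, H.invol]
      linear_combination hc - c * h2F
    obtain ⟨hok, e⟩ := line_elt H hV P (v := R.p) hvv (β := β) (δ := δ) (c1 := c) one_ne_zero hone hc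
      (by rw [hn1, div_one, div_one, hfixd]; linear_combination h2F)
    have e1 : (R.p : V) + (-qFrob hF β / 1 + δ) • P.p = w' := by
      rw [hw', hδ]; congr 2; ring
    have e2 : -(1 * δ) = α + qFrob hF β := by rw [← hδ]; linear_combination (-δ) * h2F
    rw [e1, e2] at hok e
    exact ⟨hok, by rw [← e]; exact hx⟩
  obtain ⟨hok1, hf1⟩ := helt c1 β1 h1 hα1
  obtain ⟨hok2, hf2⟩ := helt c2 β2 h2 hα2
  have hw0 : w' ≠ 0 := fun h => by
    have h1 := congrArg (B (R.r : V)) h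
    have hrp : B (R.r : V) (R.p : V) = 1 := R.hrp (P.isHerm H)
    simp [hw', hrp, P.wp H] at h1
  obtain ⟨Q, hQ⟩ := exists_pair_at H hw0 hok1.1
  rw [← hQ] at hok1 hok2 hf1 hf2
  have hpperp : B Q.p P.p = 0 := by rw [hQ, hw']; simp [map_smulₛₗ, P.wp H, P.hpp]
  obtain ⟨p0, e, hpe⟩ := Q.perp_decomp H hpperp
  have hp00 : p0 ≠ 0 := fun h => by
    rw [h, Submodule.coe_zero, zero_add] at hpe
    have h1 := congrArg (B (R.r : V)) hpe
    have hrp : B (R.r : V) (R.p : V) = 1 := R.hrp (P.isHerm H)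
    rw [hQ, hw'] at h1
    simp [P.wp H, hrp] at h1
    rw [← h1] at hpe
    exact P.hp0 (by rw [hpe, zero_smul])
  have hp0iso : Q.form p0 p0 = 0 := by
    have h : B P.p P.p = 0 := P.hpp
    rw [hpe] at h
    simpa [map_smulₛₗ, Q.pw, Q.wp H, Q.hpp, Q.form_apply] using h
  have hmem : ∀ γ : F, EichOK B Q.p (γ • P.p) 1 → eG H hV Q.p (γ • P.p) 1 • x = x →
      γ • p0 ∈ hbx H hV Q x := by
    intro γ hok hf
    rw [hpe, smul_add, smul_smul] at hok hf
    obtain ⟨hok', e'⟩ := eich_shift H hok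
    refine ⟨_, hok', ?_⟩
    show eG H hV Q.p (γ • (p0 : V)) _ • x = x
    rwa [show eG H hV Q.p (γ • (p0 : V)) _ = eG H hV Q.p (γ • (p0 : V) + (γ * e) • Q.p) 1 from
      Subtype.ext e'.symm]
  have hz0 : ∀ y : X, zsx H hV Q y = ⊥ := fun y => (AddSubgroup.eq_bot_iff_forall _).2 fun c hc => by
    by_contra hc0
    exact hfree Q.p c y Q.hp0 Q.hpp hc.1 hc0 hc.2
  have hxE : ∀ y : X, y ∈ eSet H hV Q φ := fun y => by
    rw [mem_eSet, hz0]
    intro c hc
    rw [AddSubgroup.mem_bot.1 hc, map_zero]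
  have hW : Nat.card Q.W = 16 := by rw [card_W H Q, hk, hq]; norm_num
  -- the root parameters of `x` are a line
  have hline : ∀ γ : F, γ • p0 ∈ hbx H hV Q x := by
    obtain ⟨A, hA⟩ : ∃ A : AddSubgroup F,
        A = (hbx H hV Q x).comap ((smulAddHom F Q.W).flip p0) := ⟨_, rfl⟩
    have hA' : ∀ γ : F, γ ∈ A ↔ γ • p0 ∈ hbx H hV Q x := fun γ => by rw [hA]; rfl
    suffices hT : A = ⊤ from fun γ => (hA' γ).1 (hT ▸ AddSubgroup.mem_top γ)
    have hdiv := AddSubgroup.card_addSubgroup_dvd_card A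
    rw [Nat.card_eq_fintype_card (α := F), hF, hq] at hdiv
    have h3 : 3 ≤ Nat.card A := by
      have hsub : ({0, α + qFrob hF β1, α + qFrob hF β2} : Finset F) ⊆
          Finset.univ.filter fun γ => γ ∈ A := by
        intro γ hγ
        simp only [Finset.mem_insert, Finset.mem_singleton] at hγ
        rw [Finset.mem_filter]
        refine ⟨Finset.mem_univ _, ?_⟩
        rcases hγ with rfl | rfl | rfl
        · exact zero_mem A
        · exact (hA' _).2 (hmem _ hok1 hf1)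
        · exact (hA' _).2 (hmem _ hok2 hf2)
      have h := Finset.card_le_card hsub
      rw [Finset.card_insert_of_notMem, Finset.card_pair] at h
      · rw [show Nat.card A = (Finset.univ.filter fun γ => γ ∈ A).card by
          rw [← Nat.card_eq_finsetCard]
          exact Nat.card_congr (Equiv.subtypeEquivRight fun γ => by simp)]
        exact h
      · intro h'
        exact hne ((qFrob hF).injective (add_left_cancel h'))
      · simp only [Finset.mem_insert, Finset.mem_singleton, not_or]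
        exact ⟨fun h' => hα1 (by linear_combination -h' - (qFrob hF β1) * h2F),
          fun h' => hα2 (by linear_combination -h' - (qFrob hF β2) * h2F)⟩
    refine AddSubgroup.eq_top_of_card_eq _ ?_
    rw [Nat.card_eq_fintype_card (α := F), hF, hq]
    have hle : Nat.card A ≤ 4 := Nat.le_of_dvd (by norm_num) hdiv
    interval_cases h : Nat.card A <;> first | (norm_num at hdiv; done) | norm_num
  have hcard : Nat.card (hbx H hV Q x) = 4 ∧ ∀ z ∈ hbx H hV Q x, ∃ γ : F, z = γ • p0 := by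
    have hle : Nat.card (hbx H hV Q x) ≤ 4 := by
      have h := card_hbx_sq_le H hV Q φ hφ (hxE x)
      rw [hW, show (16 : ℕ) = 4 * 4 by norm_num] at h
      exact Nat.mul_self_le_mul_self_iff.1 h
    have hinj : Function.Injective fun γ : F => (⟨γ • p0, hline γ⟩ : hbx H hV Q x) := fun a b h =>
      smul_left_injective F hp00 (congrArg Subtype.val h)
    have hF4 : Nat.card F = 4 := by rw [Nat.card_eq_fintype_card, hF, hq]; norm_num
    have hbij := hinj.bijective_of_nat_card_le (hle.trans hF4.ge)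
    refine ⟨by rw [← Nat.card_eq_of_bijective _ hbij, hF4], fun z hz => ?_⟩
    obtain ⟨γ, hγ⟩ := hbij.2 ⟨z, hz⟩
    exact ⟨γ, (congrArg Subtype.val hγ).symm⟩
  -- the family covers everything
  have hidx : 3 ≤ (sFam H hV Q x).card := by
    refine le_trans ?_ (hbStab_index_le H hV Q x)
    have h := line_index_ge (Q.isHerm H) (hk Q) hp00 hp0iso (hbStab H hV Q x) fun g hg => by
      have h1 := hg p0 (by simpa using hline 1)
      obtain ⟨γ, hγ⟩ := hcard.2 _ h1
      exact ⟨γ, hγ⟩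
    omega
  have horb : ∀ o ∈ sFam H hV Q x, o.card = 8 ∧
      ∃ s, o = qOrb H hV Q (Q.sHom H s • x) := by
    intro o ho
    rw [sFam, Set.Finite.mem_toFinset] at ho
    obtain ⟨s, rfl⟩ := ho
    refine ⟨?_, s, rfl⟩
    have h := card_qOrb_mul H hV Q (Q.sHom H s • x)
    rw [hz0, AddSubgroup.card_bot, card_hbx_sHom H hV Q, hcard.1, hW] at h
    show (qOrb H hV Q (Q.sHom H s • x)).card = 8
    omega
  have hall : ∀ y : X, ∃ s, y ∈ qOrb H hV Q (Q.sHom H s • x) := by
    have hd : (sFam H hV Q x : Set (Finset X)).PairwiseDisjoint id := fun a ha b hb hab => by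
      obtain ⟨-, s, rfl⟩ := horb a ha
      obtain ⟨-, t, rfl⟩ := horb b hb
      exact qOrb_disjoint H hV Q hab
    have huniv : (sFam H hV Q x).disjiUnion id hd = Finset.univ := by
      refine Finset.eq_univ_of_card _ (le_antisymm (Finset.card_le_univ _) ?_)
      have h24 : q ^ 3 * (q + 1) = 24 := by rw [hq]; norm_num
      rw [Finset.card_disjiUnion, hN, h24]
      simp only [id]
      rw [Finset.sum_congr rfl (g := fun _ => 8) fun o ho => (horb o ho).1, Finset.sum_const, smul_eq_mul]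
      omega
    intro y
    obtain ⟨o, ho, hy⟩ := Finset.mem_disjiUnion.1 (huniv ▸ Finset.mem_univ y : y ∈ _)
    obtain ⟨-, s, rfl⟩ := horb o ho
    exact ⟨s, hy⟩
  have hscal : ∀ (y : X) (z : Q.W) (b : F), z ∈ hbx H hV Q y → b • z ∈ hbx H hV Q y := by
    intro y z b hz
    obtain ⟨s, hs⟩ := hall y
    obtain ⟨g, hg, rfl⟩ := (mem_qOrb H hV Q).1 hs
    rw [hb_q_smul H hV Q hg] at hz ⊢
    obtain ⟨z', rfl⟩ := (levH_bijective H Q (isLev_sHom H Q s)).2 z
    rw [mem_hb_conj H hV Q (isLev_sHom H Q s)] at hz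
    obtain ⟨γ, rfl⟩ := hcard.2 z' hz
    have e3 : b • levH H Q (isLev_sHom H Q s) (γ • p0) = levH H Q (isLev_sHom H Q s) ((b * γ) • p0) := by
      rw [levH_sHom, levH_sHom, map_smul, map_smul, smul_smul]
    rw [e3, mem_hb_conj H hV Q (isLev_sHom H Q s)]
    exact hline _
  -- transport
  obtain ⟨g, hg, hgu⟩ := ut_transitive H hV.1 hV.2 Q.hpp hw.1 Q.hp0 hu0
  obtain ⟨k, hk'⟩ : ∃ k : ↥(utGroup H), k = ⟨g, hg⟩ := ⟨_, rfl⟩
  have hku : k.1.1 Q.p = u := by rw [hk']; exact hgu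
  obtain ⟨w2, hw2⟩ := k.1.1.surjective w
  obtain ⟨y, hy⟩ : ∃ y, y = k⁻¹ • x' := ⟨_, rfl⟩
  have hok3 : EichOK B Q.p w2 c := by
    obtain ⟨a1, a2, a3⟩ := hw
    rw [← hw2] at a2 a3
    rw [← hku, k.1.2] at a2
    rw [k.1.2] at a3
    exact ⟨Q.hpp, a2, a3⟩
  have hfx : eG H hV Q.p w2 c • y = y := by
    rw [← hku, ← hw2, ← eG_conj, mul_smul, mul_smul, ← hy] at hfix
    exact (eq_inv_smul_iff.2 hfix).trans hy.symm
  obtain ⟨z, d, hzd⟩ := Q.perp_decomp H hok3.2.1
  rw [hzd] at hok3 hfx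
  obtain ⟨hok4, e4⟩ := eich_shift H hok3
  have hzmem : z ∈ hbx H hV Q y := ⟨_, hok4, by
    show eG H hV Q.p (z : V) _ • y = y
    rwa [show eG H hV Q.p (z : V) _ = eG H hV Q.p ((z : V) + d • Q.p) c from Subtype.ext e4.symm]⟩
  obtain ⟨c'', hok5, hf5⟩ := hscal y z a hzmem
  obtain ⟨c', hc'⟩ : ∃ c', c' = c'' - a * d + qFrob hF (a * d) := ⟨_, rfl⟩
  have hok6 : EichOK B Q.p ((a • z : Q.W) + (a * d) • Q.p) c' := by
    refine ⟨Q.hpp, by simp [map_smul, Q.pw, Q.hpp], ?_⟩
    have h := hok5.2.2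
    have hh : B ((a • z : Q.W) + (a * d) • Q.p) ((a • z : Q.W) + (a * d) • Q.p) =
        B ((a • z : Q.W) : V) ((a • z : Q.W) : V) := by
      simp [map_smulₛₗ, Q.pw, Q.wp H, Q.hpp]
      ring
    rw [hh, hc', map_add, map_sub, H.invol]
    linear_combination h
  have e6 : a • w = k.1.1 ((a • z : Q.W) + (a * d) • Q.p) := by
    rw [← hw2, hzd, Submodule.coe_smul, ← smul_smul, ← smul_add, map_smul]
  have e7 : eG H hV Q.p ((a • z : Q.W) + (a * d) • Q.p) c' = eG H hV Q.p ((a • z : Q.W) : V) c'' := by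
    refine Subtype.ext ((eich_shift H hok6).2.trans ?_)
    rw [eG_coe]
    congr 1
    rw [hc']; ring
  refine ⟨c', ⟨hw.1, ?_, ?_⟩, ?_⟩
  · rw [map_smul, hw.2.1, smul_zero]
  · rw [e6, k.1.2]; exact hok6.2.2
  · rw [e6, ← hku, ← eG_conj, e7, mul_smul, mul_smul, ← hy]
    have hf5' : eG H hV Q.p ((a • z : Q.W) : V) c'' • y = y := hf5
    rw [hf5', hy, smul_inv_smul]

include hV in
omit hfree in
/-- The lower bound in dimension four. -/
theorem four_degree_ge [MulAction.IsPretransitive ↥(utGroup H) X] (hn : Module.finrank F V = 4)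
    (hX : 2 ≤ Fintype.card X) : (q + 1) * (q ^ 3 + 1) ≤ Fintype.card X := by
  classical
  have := finite_V H
  have := finite_utGroup H
  obtain ⟨p, m, hp, hchar, hm0, hm⟩ := exists_char hF
  have : Fact p.Prime := ⟨hp⟩
  obtain ⟨φ, hφ⟩ := exists_phi hF p
  by_contra hlt
  push Not at hlt
  obtain ⟨hN, hfree⟩ := no_fix_of_small H hV φ hφ hn hm hX hlt
  have hq := two_le_of_card_sq hF
  obtain ⟨P⟩ := exists_pair H hV
  have hk : ∀ Q : UPair B, Module.finrank F Q.W = 2 := fun Q => by have := Q.finrank_W H; omega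
  obtain ⟨R⟩ := exists_pair_two (P.isHerm H) (by rw [hk])
  -- a point with a large stabilizer in the line's group
  have hU : Nat.card (lineU H hV P R) = p ^ (6 * m) := by
    rw [card_lineU, card_W H P, hk, hm, ← pow_mul, ← pow_add, ← pow_add]
    congr 1; ring
  obtain ⟨x, hx⟩ : ∃ x : X,
      q ^ 3 ≤ Nat.card ↥(lineU H hV P R ⊓ MulAction.stabilizer ↥(utGroup H) x) := by
    by_contra hno
    push Not at hno
    have hdvd : p ^ (3 * m + 1) ∣ Fintype.card X := by
      rw [← Nat.card_eq_fintype_card,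
        Nat.card_congr (MulAction.selfEquivSigmaOrbits ↥(lineU H hV P R) X)]
      letI := Fintype.ofFinite (MulAction.orbitRel.Quotient ↥(lineU H hV P R) X)
      rw [Nat.card_sigma]
      refine Finset.dvd_sum fun o _ => ?_
      obtain ⟨y, hy⟩ : ∃ y, y = Quotient.out o := ⟨_, rfl⟩
      have h1 := Nat.card_congr (MulAction.orbitProdStabilizerEquivGroup ↥(lineU H hV P R) y)
      have h2 : Nat.card (MulAction.stabilizer ↥(lineU H hV P R) y) =
          Nat.card ↥(lineU H hV P R ⊓ MulAction.stabilizer ↥(utGroup H) y) :=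
        Nat.card_congr
          { toFun := fun g => ⟨g.1.1, g.1.2, g.2⟩
            invFun := fun g => ⟨⟨g.1, g.2.1⟩, g.2.2⟩
            left_inv := fun g => rfl
            right_inv := fun g => rfl }
      rw [Nat.card_prod, h2, hU] at h1
      obtain ⟨j, -, hj⟩ := (Nat.dvd_prime_pow hp).1 (Dvd.intro_left _ h1)
      have hlt3 := hno y
      rw [hj, hm, ← pow_mul, Nat.pow_lt_pow_iff_right hp.one_lt] at hlt3
      obtain ⟨i, hi⟩ := Nat.exists_eq_add_of_le (show j + (3 * m + 1) ≤ 6 * m by omega)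
      rw [hj, hi, show j + (3 * m + 1) + i = (3 * m + 1 + i) + j by ring, pow_add _ (3 * m + 1 + i) j] at h1
      have h3 := Nat.eq_of_mul_eq_mul_right (Nat.pow_pos (n := j) hp.pos) h1
      rw [hy] at h3
      rw [h3]
      exact pow_dvd_pow p (by omega)
    rw [hN, hm, ← pow_mul, mul_comm m 3, pow_succ] at hdvd
    have h1 : p ∣ p ^ m + 1 := Nat.dvd_of_mul_dvd_mul_left (Nat.pow_pos hp.pos) hdvd
    exact hp.not_dvd_one ((Nat.dvd_add_right (dvd_pow_self p (by omega : m ≠ 0))).1 h1)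
  have hcd := hx.trans (card_stab_le H hV P R (hk P) x)
  have hD := card_lineD_le H hV P R hfree x
  obtain ⟨D, hD'⟩ : ∃ D, D = lineD H hV P R x := ⟨_, rfl⟩
  obtain ⟨S, hS⟩ : ∃ S, S = lineR H hV P R x := ⟨_, rfl⟩
  have hSq : q ≤ Nat.card S := by
    rw [← hS] at hcd
    by_contra hlt'
    push Not at hlt'
    have h1 := Nat.mul_le_mul_left (Nat.card S) hD
    have h2 : Nat.card S * q ^ 2 < q * q ^ 2 := Nat.mul_lt_mul_of_pos_right hlt' (Nat.pow_pos (by omega))
    have h3 : q * q ^ 2 = q ^ 3 := by ring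
    rw [← hD'] at h1 hcd
    omega
  have hdiff : ∀ z ∈ D, ∀ b ∈ S,
      (qFrob hF z.2.1 * b - z.2.1 * qFrob hF b + qFrob hF b * b * z.2.2, -(b * z.2.2), (0 : F)) ∈ D := by
    intro z hz b hb
    rw [hD'] at hz ⊢
    have h := sub_mem (lineD_conj H hV P R hz (hS ▸ hb)) hz
    obtain ⟨c1, β, d⟩ := z
    convert h using 1
    simp only [Prod.mk_sub_mk, sub_self, Prod.mk.injEq]
    exact ⟨by ring, by ring, trivial⟩
  have hfr := lineD_free H hV P R hfree (x := x)
  rw [← hD'] at hfr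
  have huniq : ∀ c c' β : F, (c, β, (0 : F)) ∈ D → (c', β, (0 : F)) ∈ D → c = c' := by
    intro c c' β h h'
    by_contra hne
    refine hfr _ (sub_mem h h') (fun e => hne ?_) ?_
    · simp only [Prod.mk_sub_mk, sub_self, Prod.mk_eq_zero] at e
      exact sub_eq_zero.1 e.1
    · simp [qd]
  have hcomm : ∀ c β b : F, (c, β, (0 : F)) ∈ D → b ∈ S → qFrob hF β * b = β * qFrob hF b := by
    intro c β b h hb
    have h1 := hdiff _ h b hb
    simp only [mul_zero, neg_zero, add_zero] at h1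
    exact sub_eq_zero.1 (huniq _ _ _ h1 (show ((0 : F), (0 : F), (0 : F)) ∈ D from zero_mem D))
  obtain ⟨c0, β0, hz0, hβ0⟩ : ∃ c β : F, (c, β, (0 : F)) ∈ D ∧ β ≠ 0 := by
    by_contra hno
    push Not at hno
    obtain ⟨b, hb, hb0⟩ : ∃ b ∈ S, b ≠ 0 := by
      by_contra hc
      push Not at hc
      rw [(AddSubgroup.eq_bot_iff_forall S).2 hc, AddSubgroup.card_bot] at hSq
      omega
    have hbot : D = ⊥ := (AddSubgroup.eq_bot_iff_forall D).2 fun ⟨c, β, d⟩ hz => by
      have h1 := hno _ _ (hdiff _ hz b hb)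
      simp only [neg_eq_zero, mul_eq_zero, hb0, false_or] at h1
      subst h1
      have h2 := hno _ _ hz
      subst h2
      rw [huniq c 0 0 hz (zero_mem D)]
      rfl
    rw [← hS, ← hD', hbot, AddSubgroup.card_bot, mul_one] at hcd
    have h1 : Nat.card S ≤ q ^ 2 := by
      rw [← hF, ← Nat.card_eq_fintype_card]
      exact Nat.card_le_card_of_injective _ Subtype.val_injective
    have h2 : q ^ 2 < q ^ 3 := Nat.pow_lt_pow_right hq (by norm_num)
    omega
  obtain ⟨L, hL⟩ : ∃ L : AddSubgroup F, L = (fixF hF).map (AddMonoidHom.mulLeft β0) := ⟨_, rfl⟩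
  have hsβ0 : qFrob hF β0 ≠ 0 := fun h => hβ0 ((qFrob hF).injective (h.trans (map_zero _).symm))
  have hLc : Nat.card L = q := by
    rw [hL, ← Nat.card_congr ((fixF hF).equivMapOfInjective _ (fun a b h => mul_left_cancel₀ hβ0 h)).toEquiv,
      card_fixF]
  have hmemL : ∀ b : F, qFrob hF β0 * b = β0 * qFrob hF b → b ∈ L := by
    intro b hb
    rw [hL]
    refine ⟨b / β0, (mem_fixF hF).2 ?_, mul_div_cancel₀ b hβ0⟩
    rw [map_div₀, div_eq_div_iff hsβ0 hβ0]
    linear_combination -hb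
  have hSL : S = L := AddSubgroup.eq_of_le_of_card_ge (fun b hb => hmemL b (hcomm c0 β0 b hz0 hb))
    (hLc.trans_le hSq)
  have hβS : β0 ∈ S := by
    rw [hSL]; exact hmemL β0 (mul_comm _ _)
  have hBL : ∀ c β : F, (c, β, (0 : F)) ∈ D → β ∈ L := fun c β h => hmemL β (by
    have h1 := hcomm c β β0 h hβS
    linear_combination -h1)
  -- sizes
  have hDc : q ^ 2 ≤ Nat.card D := by
    rw [← hS, ← hD', hSL, hLc, show q ^ 3 = q * q ^ 2 by ring] at hcd
    exact Nat.le_of_mul_le_mul_left hcd (by omega)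
  obtain ⟨B0, hB0⟩ : ∃ B0 : AddSubgroup F, B0 =
      (D ⊓ ((AddMonoidHom.snd F F).comp (AddMonoidHom.snd F (F × F))).ker).map
        ((AddMonoidHom.fst F F).comp (AddMonoidHom.snd F (F × F))) := ⟨_, rfl⟩
  have hB0m : ∀ β, β ∈ B0 ↔ ∃ c, (c, β, (0 : F)) ∈ D := by
    intro β
    rw [hB0]
    constructor
    · rintro ⟨⟨c, β', d⟩, ⟨h1, h2⟩, rfl⟩
      have h2' : d = 0 := h2
      subst h2'
      exact ⟨c, h1⟩
    · rintro ⟨c, h⟩
      exact ⟨(c, β, 0), ⟨h, rfl⟩, rfl⟩
  obtain ⟨E, hE⟩ : ∃ E : AddSubgroup F, E = D.map ((AddMonoidHom.snd F F).comp (AddMonoidHom.snd F (F × F))) :=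
    ⟨_, rfl⟩
  have hB0L : B0 ≤ L := fun β h => by
    obtain ⟨c, hc⟩ := (hB0m β).1 h
    exact hBL c β hc
  have hEs : E ≤ skewF hF := by
    rw [hE]
    rintro d ⟨z, hz, rfl⟩
    rw [hD'] at hz
    exact hz.1.2
  have hDle : Nat.card D ≤ Nat.card B0 * Nat.card E := by
    have hE' : ∀ e : E, ∃ z ∈ D, z.2.2 = (e : F) := fun e => by
      have h : (e : F) ∈ D.map ((AddMonoidHom.snd F F).comp (AddMonoidHom.snd F (F × F))) := by
        rw [← hE]; exact e.2
      obtain ⟨z, hz, he⟩ := h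
      exact ⟨z, hz, he⟩
    choose s hs hse using hE'
    have hC : ∀ β : B0, ∃ c, (c, (β : F), (0 : F)) ∈ D := fun β => (hB0m _).1 β.2
    choose C hC using hC
    rw [← Nat.card_prod]
    refine Nat.card_le_card_of_surjective (fun be : B0 × E =>
      (⟨s be.2 + (C be.1, (be.1 : F), 0), add_mem (hs _) (hC _)⟩ : D)) ?_
    rintro ⟨⟨c, β, d⟩, hz⟩
    obtain ⟨e, he⟩ : ∃ e : E, (e : F) = d := ⟨⟨d, hE ▸ ⟨_, hz, rfl⟩⟩, rfl⟩
    have h2 : (c - (s e).1, β - (s e).2.1, (0 : F)) ∈ D := by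
      have h := sub_mem hz (hs e)
      convert h using 1
      rw [Prod.ext_iff, Prod.ext_iff]
      exact ⟨rfl, rfl, by rw [Prod.snd_sub, Prod.snd_sub, hse, he, sub_self]⟩
    obtain ⟨b, hb⟩ : ∃ b : B0, (b : F) = β - (s e).2.1 := ⟨⟨_, (hB0m _).2 ⟨_, h2⟩⟩, rfl⟩
    refine ⟨(b, e), Subtype.ext ?_⟩
    have hcb : C b = c - (s e).1 := huniq _ _ _ (hb ▸ hC b) h2
    show s e + (C b, (b : F), (0 : F)) = (c, β, d)
    rw [hcb, hb, Prod.ext_iff, Prod.ext_iff]
    refine ⟨?_, ?_, ?_⟩ <;> simp [hse, he]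
  have hB0q : Nat.card B0 ≤ q := (Nat.card_mono (Set.toFinite _) hB0L).trans hLc.le
  have hEq : Nat.card E ≤ q := (Nat.card_mono (Set.toFinite _) hEs).trans (card_skewF hF).le
  have hB0eq : B0 = L := AddSubgroup.eq_of_le_of_card_ge hB0L (by
    rw [hLc]
    by_contra hlt'
    push Not at hlt'
    have h1 : Nat.card B0 * Nat.card E < q * q :=
      lt_of_le_of_lt (Nat.mul_le_mul_left _ hEq) (Nat.mul_lt_mul_of_pos_right hlt' (by omega))
    rw [← sq] at h1
    omega)
  have hEeq : E = skewF hF := AddSubgroup.eq_of_le_of_card_ge hEs (by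
    rw [card_skewF]
    by_contra hlt'
    push Not at hlt'
    have h1 : Nat.card B0 * Nat.card E < q * q :=
      lt_of_le_of_lt (Nat.mul_le_mul_right _ hB0q) (Nat.mul_lt_mul_of_pos_left hlt' (by omega))
    rw [← sq] at h1
    omega)
  have hlift : ∀ d, d + qFrob hF d = 0 → ∃ c β, (c, β, d) ∈ D := fun d hd => by
    have h : d ∈ D.map ((AddMonoidHom.snd F F).comp (AddMonoidHom.snd F (F × F))) := by
      rw [← hE, hEeq]; exact hd
    obtain ⟨⟨c, β, d'⟩, hz, he⟩ := h
    exact ⟨c, β, (show d' = d from he) ▸ hz⟩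
  -- the characteristic is two
  have h2F : (2 : F) = 0 := by
    obtain ⟨d, hd0, hd⟩ := exists_skew_ne_zero hF
    obtain ⟨c, β, hz⟩ := hlift d hd
    obtain ⟨μ, hμ, he⟩ := (hL ▸ hBL _ _ (hdiff _ hz β0 hβS) : -(β0 * d) ∈ (fixF hF).map _)
    have he' : β0 * μ = β0 * -d := he.trans (mul_neg β0 d).symm
    have hμd := mul_left_cancel₀ hβ0 he'
    have h1 := (mem_fixF hF).1 hμ
    rw [hμd, map_neg] at h1
    refine (mul_eq_zero.1 (?_ : (2 : F) * d = 0)).resolve_right hd0
    linear_combination hd + h1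
  have hfs : ∀ μ : F, qFrob hF μ = μ → μ + qFrob hF μ = 0 := fun μ hμ => by
    rw [hμ]; linear_combination μ * h2F
  have hLD : ∀ μ : F, qFrob hF μ = μ → ∃ c, (c, β0 * μ, (0 : F)) ∈ D := fun μ hμ => by
    refine (hB0m _).1 ?_
    rw [hB0eq, hL]
    exact ⟨μ, hμ, rfl⟩
  have hβm : ∀ m' : F, qFrob hF m' = m' → β0 * m' ∈ S := fun m' hm' => by
    rw [hSL, hL]; exact ⟨m', hm', rfl⟩
  by_cases hq2 : q = 2
  · obtain ⟨c1, β1, hz1⟩ := hlift 1 (hfs 1 (map_one _))
    have hz2 : (c1 + c0, β1 + β0, (1 : F)) ∈ D := by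
      have := add_mem hz1 hz0
      simpa using this
    rw [hD'] at hz1 hz2
    have hc0 : c0 + qFrob hF c0 = 0 := ((hD' ▸ hz0 : _ ∈ lineD H hV P R x)).1.1
    have hfx : eG H hV P.p (β0 • (R.p : V)) c0 • x = x := by
      have h := ((hD' ▸ hz0 : _ ∈ lineD H hV P R x)).2
      simpa [dElt, eG_zero H hV] using h
    have hall : ∀ a : F, a * β0 ∈ L := by
      intro a
      obtain ⟨c', hok, hfc⟩ := two_line_type H hV hfree φ hφ hq2 hN P hk R hz1 hz2
        (fun h => hβ0 (by simpa using h.symm)) P.hp0 (line_ok H P R β0 hc0) hfx a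
      rw [smul_smul] at hok hfc
      refine hBL c' _ ?_
      rw [hD']
      refine ⟨⟨?_, by simp⟩, by simpa [dElt, eG_zero H hV] using hfc⟩
      have hvv : B (R.p : V) (R.p : V) = 0 := R.hpp
      simpa [map_smulₛₗ, hvv] using hok.2.2
    have h1 : q ^ 2 ≤ Nat.card L := by
      rw [← hF, ← Nat.card_eq_fintype_card]
      refine Nat.card_le_card_of_injective (fun a => (⟨a * β0, hall a⟩ : L)) fun a b h => ?_
      exact mul_right_cancel₀ hβ0 (congrArg Subtype.val h)
    rw [hLc, hq2] at h1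
    norm_num at h1
  · obtain ⟨μ, hμ, hμ0, hμ1⟩ := exists_fixed_ne hF (show 3 ≤ q by omega)
    obtain ⟨K, hK⟩ : ∃ K : F → F, K = fun β => qFrob hF β * β0 - β * qFrob hF β0 := ⟨_, rfl⟩
    obtain ⟨N0, hN0⟩ : ∃ N0, N0 = qFrob hF β0 * β0 := ⟨_, rfl⟩
    have hN00 : N0 ≠ 0 := hN0 ▸ mul_ne_zero hsβ0 hβ0
    choose C hC using hLD
    have key : ∀ (m' : F) (hm' : qFrob hF m' = m') (d : F) (hd : qFrob hF d = d) (c β : F),
        (c, β, d) ∈ D → C (m' * d) (by rw [map_mul, hm', hd]) = m' * K β + m' * m' * N0 * d := by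
      intro m' hm' d hd c β hz
      have h := hdiff _ hz _ (hβm m' hm')
      refine huniq _ _ (β0 * (m' * d)) (hC _ _) ?_
      convert h using 1
      simp only [Prod.mk.injEq, hK, hN0, map_mul, hm']
      exact ⟨by ring, by linear_combination (β0 * m' * d) * h2F, trivial⟩
    obtain ⟨c1, β1, hz1⟩ := hlift 1 (hfs 1 (map_one _))
    obtain ⟨cμ, βμ, hzμ⟩ := hlift μ (hfs μ hμ)
    have h1 := key μ hμ μ hμ cμ βμ hzμ
    have h2 := key 1 (map_one _) μ hμ cμ βμ hzμ
    have h3 := key (μ * μ) (by rw [map_mul, hμ]) 1 (map_one _) c1 β1 hz1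
    have h4 := key μ hμ 1 (map_one _) c1 β1 hz1
    simp only [mul_one, one_mul] at h1 h2 h3 h4
    refine hN00 ((mul_eq_zero.1 (?_ : (μ * μ) * ((μ - 1) * (μ - 1)) * N0 = 0)).resolve_left ?_)
    · linear_combination (h1 - h3) + μ * (h4 - h2)
    · exact mul_ne_zero (mul_ne_zero hμ0 hμ0) (mul_ne_zero (sub_ne_zero.2 hμ1) (sub_ne_zero.2 hμ1))

end CfsgLib.MinIdxU
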