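import Cfsg.Agent.Lib.MinIdxU.OddBase
import Cfsg.Agent.Lib.MinIdxU.FourExact

/-!
# Points moved by a transvection of `SU₅(2)`
-/

set_option autoImplicit false
set_option linter.unusedSectionVars false

namespace CfsgLib.MinIdxU

open CfsgLib.Classical CfsgLib.Geom

universe u v w

variable {F : Type u} [Field F] [Fintype F] {q : ℕ} {hF : Fintype.card F = q ^ 2}

theorem two_elt (hq : q = 2) {c : F} (hc : qFrob hF c = c) : c = 0 ∨ c = 1 :=
  (em (c = 0)).imp id fun h => fix_two hq hc h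

theorem skew_two (hq : q = 2) {c : F} (hc : c + qFrob hF c = 0) : c = 0 ∨ c = 1 := by
  refine two_elt (hF := hF) hq ?_
  linear_combination hc - c * char_two_of_q hF hq

theorem norm_two (hq : q = 2) {a : F} (ha : a ≠ 0) : qFrob hF a * a = 1 := by
  refine fix_two (hF := hF) hq ?_ (mul_ne_zero (fun h => ha ((qFrob hF).injective (h.trans (map_zero _).symm))) ha)
  rw [map_mul, qFrob_qFrob hF, mul_comm]

theorem cube_two (hF : Fintype.card F = q ^ 2) (hq : q = 2) {a : F} (ha : a ≠ 0) : a ^ 3 = 1 := by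
  have h := norm_two (hF := hF) hq ha
  rw [qFrob_apply, hq] at h
  linear_combination h

section three

variable {W : Type v} [AddCommGroup W] [Module F W] [FiniteDimensional F W]
variable {B : W →ₛₗ[qFrob hF] W →ₗ[F] F} (H : IsHermSpace B) (hn : Module.finrank F W = 3)
include H hn

/-- An isometry between two frames. -/
theorem exists_frame_isom (R R' : UPair B) {e e' : W} (hpe : B R.p e = 0) (hre : B R.r e = 0)
    (hpe' : B R'.p e' = 0) (hre' : B R'.r e' = 0) (hee : B e e = 1) (hee' : B e' e' = 1) :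
    ∃ h : formIsoms B, h.1 R.p = R'.p ∧ h.1 e = e' := by
  have li : ∀ (R : UPair B) {e : W}, B R.p e = 0 → B R.r e = 0 → B e e = 1 →
      LinearIndependent F ![R.p, R.r, e] := by
    intro R e h1 h2 h3
    rw [Fintype.linearIndependent_iff]
    intro c hc
    simp only [Fin.sum_univ_three, Matrix.cons_val_zero, Matrix.cons_val_one, Matrix.cons_val_two,
      Matrix.head_cons, Matrix.tail_cons] at hc
    have e1 := congrArg (B R.p) hc
    have e2 := congrArg (B R.r) hc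
    have e3 := congrArg (B e) hc
    simp [map_add, map_smul, R.hpp, R.hrr, R.hpr, R.hrp H, h1, h2, h3, H.eq_zero_comm h1,
      H.eq_zero_comm h2] at e1 e2 e3
    intro i
    fin_cases i <;> assumption
  let b := basisOfLinearIndependentOfCardEqFinrank (li R hpe hre hee) (by rw [Fintype.card_fin, hn])
  let b' := basisOfLinearIndependentOfCardEqFinrank (li R' hpe' hre' hee') (by rw [Fintype.card_fin, hn])
  obtain ⟨f, hf⟩ : ∃ f : W ≃ₗ[F] W, f = b.equiv b' (Equiv.refl _) := ⟨_, rfl⟩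
  have hfb : ∀ i, f (![R.p, R.r, e] i) = ![R'.p, R'.r, e'] i := fun i => by
    rw [hf, show ![R.p, R.r, e] i = b i from by simp [b, coe_basisOfLinearIndependentOfCardEqFinrank],
      Module.Basis.equiv_apply]
    simp [b', coe_basisOfLinearIndependentOfCardEqFinrank]
  have f0 : f R.p = R'.p := hfb 0
  have f1 : f R.r = R'.r := hfb 1
  have f2 : f e = e' := hfb 2
  refine ⟨⟨f, fun x y => ?_⟩, f0, f2⟩
  have hx : ∀ x, x = b.repr x 0 • R.p + b.repr x 1 • R.r + b.repr x 2 • e := fun x => by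
    conv_lhs => rw [← b.sum_repr x]
    simp [Fin.sum_univ_three, b, coe_basisOfLinearIndependentOfCardEqFinrank]
  rw [hx x, hx y]
  simp [map_add, map_smulₛₗ, f0, f1, f2, R.hpp, R.hrr, R.hpr, R.hrp H, hpe, hre, hee,
    H.eq_zero_comm hpe, H.eq_zero_comm hre, R'.hpp, R'.hrr, R'.hpr, R'.hrp H, hpe', hre', hee',
    H.eq_zero_comm hpe', H.eq_zero_comm hre']

theorem exists_frame {a c : W} (ha : a ≠ 0) (haa : B a a = 0) (hac : B a c = 0) (hcc : B c c = 1) :
    ∃ R : UPair B, R.p = a ∧ B R.r c = 0 := by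
  obtain ⟨y, hy, hyy⟩ := H.exists_hyperbolic ha haa
  obtain ⟨t, ht⟩ : ∃ t, t = y - B c y • c := ⟨_, rfl⟩
  have hat : B a t = 1 := by rw [ht, map_sub, map_smul, hac, hy, smul_zero, sub_zero]
  have hct : B c t = 0 := by rw [ht, map_sub, map_smul, hcc, smul_eq_mul, mul_one, sub_self]
  obtain ⟨s, hs⟩ := H.exists_trace (a := -B t t) (by rw [map_neg, H.self_fixed])
  refine ⟨⟨a, t + s • a, haa, ?_, by rw [map_add, map_smul, hat, haa, smul_zero, add_zero]⟩, rfl, ?_⟩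
  · simp only [map_add, map_smulₛₗ, LinearMap.add_apply, LinearMap.smul_apply, RingHom.id_apply,
      smul_eq_mul, hat, haa, H.eq_one_comm hat]
    linear_combination hs
  · refine H.eq_zero_comm ?_
    rw [map_add, map_smul, hct, H.eq_zero_comm hac, smul_zero, add_zero]

/-- Isometries are transitive on orthogonal pairs of an isotropic and a unit vector. -/
theorem isom_transitive_pairs {a c a' c' : W} (ha : a ≠ 0) (haa : B a a = 0) (hac : B a c = 0)
    (hcc : B c c = 1) (ha' : a' ≠ 0) (haa' : B a' a' = 0) (hac' : B a' c' = 0) (hcc' : B c' c' = 1) :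
    ∃ h : formIsoms B, h.1 a = a' ∧ h.1 c = c' := by
  obtain ⟨R, rfl, hR⟩ := exists_frame H hn ha haa hac hcc
  obtain ⟨R', rfl, hR'⟩ := exists_frame H hn ha' haa' hac' hcc'
  exact exists_frame_isom H hn R R' hac hR hac' hR' hcc hcc'

variable (hq : q = 2)
include hq

theorem unit_two {c : W} (hc : B c c ≠ 0) : B c c = 1 := fix_two hq (H.self_fixed c) hc

theorem exists_perp_unit {a : W} (ha : a ≠ 0) (haa : B a a = 0) :
    ∃ c : W, B a c = 0 ∧ B c c = 1 := by
  obtain ⟨R, rfl⟩ := exists_pair_at H ha haa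
  obtain ⟨e, he, -⟩ := exists_line H hn R
  exact ⟨(e : W), R.pw e, unit_two H hn hq he⟩

theorem exists_perp_iso {c : W} : ∃ a : W, a ≠ 0 ∧ B a a = 0 ∧ B a c = 0 := by
  obtain ⟨s, hs0, hs, hss⟩ := H.exists_perp_isotropic ![c] (by omega)
  exact ⟨s, hs0, hss, H.eq_zero_comm (hs 0)⟩

omit hn hq in
theorem ncard_le_mul {α β : Type*} [Finite α] [Finite β] (I : Set α) (T : Set β) (r : β → α → Prop) {m : ℕ}
    (hcover : ∀ z ∈ T, ∃ S ∈ I, r z S) (hb : ∀ S ∈ I, {z | z ∈ T ∧ r z S}.ncard ≤ m) :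
    T.ncard ≤ I.ncard * m := by
  classical
  have := Fintype.ofFinite α
  have hsub : T ⊆ ⋃ S ∈ I.toFinset, {z | z ∈ T ∧ r z S} := fun z hz => by
    obtain ⟨S, hS, hr⟩ := hcover z hz
    exact Set.mem_biUnion (Set.mem_toFinset.2 hS) ⟨hz, hr⟩
  refine (Set.ncard_le_ncard hsub (Set.toFinite _)).trans ((Finset.set_ncard_biUnion_le _ _).trans ?_)
  refine (Finset.sum_le_sum fun S hS => hb S (Set.mem_toFinset.1 hS)).trans ?_
  rw [Finset.sum_const, smul_eq_mul, Set.ncard_eq_toFinset_card']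

omit hq in
theorem ncard_iso_vec : {v : W | v ≠ 0 ∧ B v v = 0}.ncard = (q ^ 2 - 1) * (q ^ 3 + 1) := by
  rw [← card_iso_three H hn, ← Nat.card_coe_set_eq]
  rfl

theorem ncard_unit_vec : {v : W | B v v = 1}.ncard = 36 := by
  have h := card_aniso H
  rw [hn, show nIso q 3 = q ^ 3 + 1 by simp [nIso, add_comm]] at h
  have e : {v : W | B v v = 1} = {v : W | B v v ≠ 0} := by
    ext v
    exact ⟨fun h => by rw [Set.mem_ofPred_eq] at h ⊢; rw [h]; exact one_ne_zero, fun h => unit_two H hn hq h⟩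
  rw [e, ← Nat.card_coe_set_eq]
  subst hq
  norm_num at h
  show Nat.card {v : W // ¬ B v v = 0} = 36
  omega

theorem ncard_pairs : 324 ≤ {z : W × W | (z.1 ≠ 0 ∧ B z.1 z.1 = 0) ∧ B z.1 z.2 = 0 ∧ B z.2 z.2 = 1}.ncard := by
  classical
  have := finite_V H
  have hc : ∀ a : {v : W // v ≠ 0 ∧ B v v = 0}, ∃ c : W, B a.1 c = 0 ∧ B c c = 1 := fun a =>
    exists_perp_unit H hn hq a.2.1 a.2.2
  choose e he hee using hc
  have hcard : Nat.card ({v : W // v ≠ 0 ∧ B v v = 0} × Fˣ × F) = 324 := by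
    rw [Nat.card_prod, Nat.card_prod, card_iso_three H hn, Nat.card_units, Nat.card_eq_fintype_card, hF, hq]
    norm_num
  rw [← hcard, ← Nat.card_coe_set_eq]
  refine Nat.card_le_card_of_injective (fun z => (⟨(z.1.1, (z.2.1 : F) • e z.1 + z.2.2 • z.1.1), z.1.2, ?_, ?_⟩ :
    {z : W × W | (z.1 ≠ 0 ∧ B z.1 z.1 = 0) ∧ B z.1 z.2 = 0 ∧ B z.2 z.2 = 1})) ?_
  · simp [he, z.1.2.2]
  · simp [map_smulₛₗ, he, hee, z.1.2.2, H.eq_zero_comm (he z.1), norm_two (hF := hF) hq z.2.1.ne_zero]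
  rintro ⟨a, t, x⟩ ⟨a', t', x'⟩ h
  have h1 := congrArg Subtype.val h
  simp only [Prod.mk.injEq] at h1
  obtain rfl : a = a' := Subtype.ext h1.1
  have h2 := congrArg (B (e a)) h1.2
  simp [hee, H.eq_zero_comm (he a)] at h2
  obtain rfl : t = t' := Units.ext h2
  have h3 := smul_left_injective F a.2.1 (add_left_cancel h1.2)
  obtain rfl : x = x' := h3
  rfl

variable (A : AddSubgroup W) (hsym : ∀ x ∈ A, ∀ y ∈ A, B x y = B y x)
include hsym

/-- An additive subgroup of order eight has an orthogonal isotropic and unit pair, and few of them. -/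
theorem eight_pairs (h8 : Nat.card A = 8) :
    (∃ a ∈ A, ∃ c ∈ A, (a ≠ 0 ∧ B a a = 0) ∧ B a c = 0 ∧ B c c = 1) ∧
    {x : W | x ∈ A ∧ x ≠ 0 ∧ B x x = 0}.ncard = 3 ∧ {x : W | x ∈ A ∧ B x x = 1}.ncard = 4 := by
  classical
  have := finite_V H
  have hval : ∀ x ∈ A, ∀ y ∈ A, B x y = 0 ∨ B x y = 1 := fun x hx y hy =>
    two_elt (hF := hF) hq (by rw [H.conj]; exact hsym y hy x hx)
  have hadd : ∀ x ∈ A, ∀ y ∈ A, B (x + y) (x + y) = B x x + B y y := fun x hx y hy => by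
    simp only [map_add, LinearMap.add_apply, hsym y hy x hx]
    linear_combination B x y * char_two_of_q hF hq
  obtain ⟨c, hc, hcc⟩ : ∃ c ∈ A, B c c = 1 := by
    by_contra hno
    push Not at hno
    have hz : ∀ x ∈ A, B x x = 0 := fun x hx => (hval x hx x hx).resolve_right (hno x hx)
    obtain ⟨a, ha, ha0⟩ : ∃ a ∈ A, a ≠ 0 := by
      by_contra h
      push Not at h
      rw [(AddSubgroup.eq_bot_iff_forall A).2 h, AddSubgroup.card_bot] at h8
      omega
    obtain ⟨R, rfl⟩ := exists_pair_at H ha0 (hz a ha)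
    obtain ⟨e, hee, hspan⟩ := exists_line H hn R
    have hline : ∀ x ∈ A, B R.p x = 0 → ∃ t : F, x = t • R.p := by
      intro x hx h0
      obtain ⟨w0, t, rfl⟩ := R.perp_decomp H h0
      obtain ⟨s, rfl⟩ := hspan w0
      have h := hz _ hx
      simp [map_smulₛₗ, R.pw, R.wp H, R.hpp, hee] at h
      exact ⟨t, by simp [h]⟩
    obtain ⟨K, hK⟩ : ∃ K : Set W, K = {x | x ∈ A ∧ B R.p x = 0} := ⟨_, rfl⟩
    by_cases hb : ∃ b ∈ A, ∃ t : F, b = t • R.p ∧ t ≠ 0 ∧ t ≠ 1
    · obtain ⟨b, hb, t, rfl, ht0, ht1⟩ := hb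
      have hall : ∀ x ∈ A, B R.p x = 0 := fun x hx => by
        rcases hval _ ha x hx with h | h
        · exact h
        · rcases hval _ hb x hx with h' | h'
          · simp [map_smulₛₗ, h, ht0] at h'
          · simp [map_smulₛₗ, h] at h'
            exact absurd ((qFrob hF).injective (h'.trans (map_one _).symm)) ht1
      have hle : Nat.card A ≤ Nat.card F := by
        refine Nat.card_le_card_of_injective (fun x : A => B R.r x.1) fun x y e' => Subtype.ext ?_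
        obtain ⟨s, hs⟩ := hline x.1 x.2 (hall x.1 x.2)
        obtain ⟨s', hs'⟩ := hline y.1 y.2 (hall y.1 y.2)
        simp [hs, hs', R.hrp H] at e'
        rw [hs, hs', e']
      rw [h8, Nat.card_eq_fintype_card, hF, hq] at hle
      omega
    push Not at hb
    have hK2 : ∀ x ∈ A, B R.p x = 0 → x = 0 ∨ x = R.p := fun x hx h => by
      obtain ⟨t, rfl⟩ := hline x hx h
      by_cases ht : t = 0
      · exact Or.inl (by rw [ht, zero_smul])
      · exact Or.inr (by rw [hb _ hx t rfl ht, one_smul])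
    have hle : Nat.card A ≤ Nat.card (({0, R.p} : Finset W) × ({0, 1} : Finset F)) := by
      have hch : ∀ v : F, ∃ x0 ∈ A, (∃ x ∈ A, B R.p x = v) → B R.p x0 = v := fun v => by
        by_cases h : ∃ x ∈ A, B R.p x = v
        · obtain ⟨x, hx, he⟩ := h; exact ⟨x, hx, fun _ => he⟩
        · exact ⟨0, A.zero_mem, fun h' => absurd h' h⟩
      choose x0 hx0 hx0' using hch
      refine Nat.card_le_card_of_injective (fun x : A => (⟨x.1 - x0 (B R.p x.1), ?_⟩, ⟨B R.p x.1, ?_⟩)) ?_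
      · rcases hK2 _ (A.sub_mem x.2 (hx0 _)) (by rw [map_sub, hx0' _ ⟨x.1, x.2, rfl⟩, sub_self]) with h | h <;>
          simp [h]
      · rcases hval _ ha x.1 x.2 with h | h <;> simp [h]
      · intro x y e'
        simp only [Prod.mk.injEq, Subtype.mk.injEq] at e'
        exact Subtype.ext (by rw [← sub_left_inj, e'.1, e'.2])
    rw [h8, Nat.card_prod, Nat.card_eq_finsetCard, Nat.card_eq_finsetCard] at hle
    have := Nat.mul_le_mul (Finset.card_le_two (a := (0 : W)) (b := R.p))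
      (Finset.card_le_two (a := (0 : F)) (b := (1 : F)))
    omega
  obtain ⟨Z, hZ⟩ : ∃ Z : Set W, Z = {x | x ∈ A ∧ B x x = 0} := ⟨_, rfl⟩
  obtain ⟨U, hU⟩ : ∃ U : Set W, U = {x | x ∈ A ∧ B x x = 1} := ⟨_, rfl⟩
  have hsum : Z.ncard + U.ncard = 8 := by
    rw [← Set.ncard_union_eq, ← h8, ← SetLike.coe_sort_coe, Nat.card_coe_set_eq]
    · congr 1
      ext x
      rw [hZ, hU]
      exact ⟨fun h => h.elim And.left And.left, fun hx =>
        (hval x hx x hx).imp (fun h => ⟨hx, h⟩) (fun h => ⟨hx, h⟩)⟩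
    · rw [Set.disjoint_left, hZ, hU]
      exact fun x h1 h2 => one_ne_zero (h2.2.symm.trans h1.2)
  have heq : Z.ncard = U.ncard := by
    refine Set.ncard_congr (fun x _ => x + c) (fun x hx => ?_) (fun x y _ _ e => add_right_cancel e)
      fun y hy => ?_
    · rw [hZ] at hx; rw [hU]
      exact ⟨A.add_mem hx.1 hc, by rw [hadd x hx.1 c hc, hx.2, hcc, zero_add]⟩
    · rw [hU] at hy; rw [hZ]
      refine ⟨y - c, ⟨A.sub_mem hy.1 hc, ?_⟩, sub_add_cancel y c⟩
      have h := hadd _ (A.sub_mem hy.1 hc) c hc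
      rw [sub_add_cancel, hy.2, hcc] at h
      linear_combination -h
  have hZ0 : {x : W | x ∈ A ∧ x ≠ 0 ∧ B x x = 0} = Z \ {0} := by
    ext x; simp [hZ]; tauto
  have hZmem : (0 : W) ∈ Z := by rw [hZ]; exact ⟨A.zero_mem, by simp⟩
  have h3 : {x : W | x ∈ A ∧ x ≠ 0 ∧ B x x = 0}.ncard = 3 := by
    rw [hZ0, Set.ncard_sdiff_singleton_of_mem hZmem]; omega
  refine ⟨?_, h3, by rw [← hU]; omega⟩
  obtain ⟨a, ha, ha0, haa⟩ := Set.nonempty_of_ncard_ne_zero (s := {x : W | x ∈ A ∧ x ≠ 0 ∧ B x x = 0}) (by omega)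
  obtain ⟨b, ⟨hb, hb0, hbb⟩, hba⟩ := Set.exists_ne_of_one_lt_ncard
    (s := {x : W | x ∈ A ∧ x ≠ 0 ∧ B x x = 0}) (by omega) a
  rcases hval a ha c hc with h | h
  · exact ⟨a, ha, c, hc, ⟨ha0, haa⟩, h, hcc⟩
  rcases hval b hb c hc with h' | h'
  · exact ⟨b, hb, c, hc, ⟨hb0, hbb⟩, h', hcc⟩
  refine ⟨a + b, A.add_mem ha hb, c, hc, ⟨fun e => hba ?_, by rw [hadd a ha b hb, haa, hbb, add_zero]⟩, ?_, hcc⟩
  · rw [← neg_eq_of_add_eq_zero_right e, ← neg_one_smul F a,
      show (-1 : F) = 1 by linear_combination -char_two_of_q hF hq, one_smul]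
  · rw [map_add, LinearMap.add_apply, h, h']; linear_combination char_two_of_q hF hq

/-- The subgroup has many images under isometries. -/
theorem images_ge (h1 : 1 < Nat.card A) (h2 : Nat.card A ≤ 8) (hd : Nat.card A ∣ 64) :
    165 * Nat.card A ≤
      (Set.range fun h : formIsoms B => A.map h.1.toLinearMap.toAddMonoidHom).ncard * 128 := by
  classical
  have := finite_V H
  have : Finite (AddSubgroup W) := Finite.of_injective _ SetLike.coe_injective
  obtain ⟨I, hI⟩ : ∃ I, I = (Set.range fun h : formIsoms B => A.map h.1.toLinearMap.toAddMonoidHom) := ⟨_, rfl⟩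
  rw [← hI]
  have himg : ∀ S ∈ I, ∃ h : formIsoms B, ∀ x, x ∈ S ↔ ∃ y ∈ A, h.1 y = x := fun S hS => by
    rw [hI] at hS
    obtain ⟨h, rfl⟩ := hS
    exact ⟨h, fun x => AddSubgroup.mem_map⟩
  have hmk : ∀ h : formIsoms B, A.map h.1.toLinearMap.toAddMonoidHom ∈ I := fun h => hI ▸ ⟨h, rfl⟩
  obtain ⟨j, -, hj⟩ : ∃ j, j ≤ 6 ∧ Nat.card A = 2 ^ j :=
    (Nat.dvd_prime_pow Nat.prime_two).1 (by norm_num; exact hd)
  have hj3 : j ≤ 3 := (Nat.pow_le_pow_iff_right one_lt_two).1 (by rw [← hj]; exact h2)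
  by_cases h8 : Nat.card A = 8
  · obtain ⟨⟨a, ha, c, hc, haa, hac, hcc⟩, h3, h4⟩ := eight_pairs H hn hq A hsym h8
    have h := ncard_le_mul H I {z : W × W | (z.1 ≠ 0 ∧ B z.1 z.1 = 0) ∧ B z.1 z.2 = 0 ∧ B z.2 z.2 = 1}
      (fun z S => z.1 ∈ S ∧ z.2 ∈ S) (m := 12) (fun z hz => ?_) fun S hS => ?_
    · have := ncard_pairs H hn hq
      rw [h8]; omega
    · obtain ⟨h, ha', hc'⟩ := isom_transitive_pairs H hn haa.1 haa.2 hac hcc hz.1.1 hz.1.2 hz.2.1 hz.2.2
      exact ⟨_, hmk h, AddSubgroup.mem_map.2 ⟨a, ha, ha'⟩, AddSubgroup.mem_map.2 ⟨c, hc, hc'⟩⟩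
    · obtain ⟨h, hh⟩ := himg S hS
      refine (Set.ncard_le_ncard (t := (fun z : W × W => (h.1 z.1, h.1 z.2)) ''
        ({x : W | x ∈ A ∧ x ≠ 0 ∧ B x x = 0} ×ˢ {x : W | x ∈ A ∧ B x x = 1})) ?_ (Set.toFinite _)).trans
        ((Set.ncard_image_le (Set.toFinite _)).trans (by rw [Set.ncard_prod, h3, h4]))
      rintro ⟨z1, z2⟩ ⟨⟨⟨hz0, hz1⟩, -, hz2⟩, hm1, hm2⟩
      obtain ⟨y1, hy1, rfl⟩ := (hh z1).1 hm1
      obtain ⟨y2, hy2, rfl⟩ := (hh z2).1 hm2
      simp only at hz0 hz1 hz2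
      rw [h.2] at hz1 hz2
      exact ⟨(y1, y2), ⟨⟨hy1, fun (e : y1 = 0) => hz0 (by rw [e, map_zero]), hz1⟩, hy2, hz2⟩, rfl⟩
  · have h4 : Nat.card A ≤ 4 := by
      rw [hj]
      rcases Nat.lt_or_ge j 3 with h | h
      · exact (Nat.pow_le_pow_right (by norm_num) (show j ≤ 2 by omega)).trans (by norm_num)
      · exact absurd (by rw [hj, show j = 3 by omega]; norm_num) h8
    obtain ⟨a, ha, ha0⟩ : ∃ a ∈ A, a ≠ 0 := by
      by_contra h
      push Not at h
      rw [(AddSubgroup.eq_bot_iff_forall A).2 h, AddSubgroup.card_bot] at h1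
      omega
    obtain ⟨T, hT, htr⟩ : ∃ T : Set W, 27 ≤ T.ncard ∧
        ∀ z ∈ T, z ≠ 0 ∧ ∃ h : formIsoms B, h.1 a = z := by
      by_cases haa : B a a = 0
      · obtain ⟨c, hac, hcc⟩ := exists_perp_unit H hn hq ha0 haa
        refine ⟨_, ?_, fun z (hz : z ∈ {v : W | v ≠ 0 ∧ B v v = 0}) => ⟨hz.1, ?_⟩⟩
        · rw [ncard_iso_vec H hn, hq]; norm_num
        obtain ⟨c', hac', hcc'⟩ := exists_perp_unit H hn hq hz.1 hz.2
        obtain ⟨h, he, -⟩ := isom_transitive_pairs H hn ha0 haa hac hcc hz.1 hz.2 hac' hcc'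
        exact ⟨h, he⟩
      · obtain ⟨i, hi0, hii, hia⟩ := exists_perp_iso H hn hq (c := a)
        refine ⟨_, ?_, fun z (hz : z ∈ {v : W | B v v = 1}) => ⟨fun e => by simp [e] at hz, ?_⟩⟩
        · rw [ncard_unit_vec H hn hq]; norm_num
        obtain ⟨i', hi0', hii', hia'⟩ := exists_perp_iso H hn hq (c := z)
        obtain ⟨h, -, he⟩ := isom_transitive_pairs H hn hi0 hii hia (unit_two H hn hq haa) hi0' hii' hia' hz
        exact ⟨h, he⟩
    have hbd := ncard_le_mul H I T (fun z S => z ∈ S) (m := Nat.card A - 1) (fun z hz => ?_) fun S hS => ?_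
    · have h27 : 27 ≤ I.ncard * 3 := hT.trans (hbd.trans (Nat.mul_le_mul_left _ (by omega)))
      omega
    · obtain ⟨-, h, he⟩ := htr z hz
      exact ⟨_, hmk h, AddSubgroup.mem_map.2 ⟨a, ha, he⟩⟩
    · obtain ⟨h, hh⟩ := himg S hS
      refine (Set.ncard_le_ncard (t := (fun y : W => h.1 y) '' ((A : Set W) \ {0})) ?_ (Set.toFinite _)).trans
        ((Set.ncard_image_le (Set.toFinite _)).trans ?_)
      · rintro z ⟨hz, hm⟩
        obtain ⟨y, hy, rfl⟩ := (hh z).1 hm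
        exact ⟨y, ⟨hy, fun e => (htr _ hz).1 (by rw [Set.mem_singleton_iff.1 e, map_zero])⟩, rfl⟩
      · rw [Set.ncard_sdiff_singleton_of_mem A.zero_mem, ← Nat.card_coe_set_eq]
        exact le_rfl

end three

end CfsgLib.MinIdxU
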