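import Cfsg.Agent.Lib.MinIdxU.IsoFree
import Cfsg.Agent.Lib.MinIdxU.FourMoved

/-!
# The stabilizer of a totally isotropic line in a set without fixed points of transvections
-/

set_option autoImplicit false
set_option linter.unusedSectionVars false

namespace CfsgLib.MinIdxU

open CfsgLib.Classical CfsgLib.Geom
open scoped Pointwise

universe u v w

variable {F : Type u} [Field F] [Fintype F] {q : ℕ} {hF : Fintype.card F = q ^ 2}
variable {V : Type v} [AddCommGroup V] [Module F V] [FiniteDimensional F V]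
variable {B : V →ₛₗ[qFrob hF] V →ₗ[F] F} (H : IsHermSpace B) (hV : Gen B) (P : UPair B)
include H

include hV in
/-- An element of a totally isotropic line's group inside the root group of one of its points. -/
theorem line_elt {v : P.W} (hvv : B (v : V) (v : V) = 0) {β d c1 δ : F} (hd0 : d ≠ 0)
    (hd : d + qFrob hF d = 0) (hc1 : c1 + qFrob hF c1 = 0)
    (hδ : qFrob hF δ * δ = -(c1 + qFrob hF β * β / d) / d) :
    EichOK B ((v : V) + (-qFrob hF β / d + δ) • P.p) (-(d * δ) • P.p) d ∧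
      eG H hV P.p (β • (v : V)) c1 * eG H hV (v : V) 0 d =
        eG H hV ((v : V) + (-qFrob hF β / d + δ) • P.p) (-(d * δ) • P.p) d := by
  have hsd : qFrob hF d = -d := by linear_combination hd
  have h : EichOK B P.p (β • (v : V)) c1 :=
    ⟨P.hpp, by simp [map_smul, P.pw], by simpa [map_smulₛₗ, hvv] using hc1⟩
  obtain ⟨α, hα⟩ : ∃ α, α = -qFrob hF β / d + δ := ⟨_, rfl⟩
  obtain ⟨γ, hγ⟩ : ∃ γ, γ = -(d * δ) := ⟨_, rfl⟩
  rw [← hα, ← hγ]
  have hok : EichOK B ((v : V) + α • P.p) (γ • P.p) d :=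
    ⟨by simp [map_smulₛₗ, hvv, P.hpp, P.pw, P.wp H], by simp [map_smulₛₗ, P.hpp, P.wp H],
      by simpa [map_smulₛₗ, P.hpp] using hd⟩
  refine ⟨hok, Subtype.ext (herm_ext fun z => ?_)⟩
  show (eich H P.p (β • (v : V)) c1).1 ((eich H (v : V) 0 d).1 z) =
    (eich H ((v : V) + α • P.p) (γ • P.p) d).1 z
  rw [eich_apply H h, transv_apply H hvv hd, eich_apply H hok]
  have hsα : qFrob hF α = β / d + qFrob hF δ := by
    simp only [hα, map_add, map_div₀, map_neg, H.invol, hsd, neg_div_neg_eq]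
  have hsγ : qFrob hF γ = d * qFrob hF δ := by simp [hγ, hsd]
  simp only [map_add, map_smul, map_smulₛₗ, LinearMap.add_apply, LinearMap.smul_apply,
    RingHom.id_apply, smul_eq_mul, hvv, P.pw, hsα, hsγ]
  rw [hγ, hα]
  field_simp at hδ
  match_scalars
  · field_simp
  · field_simp
    linear_combination (B P.p z) * 0
  · field_simp
    linear_combination (B P.p z) * hδ

theorem root_image {w : P.W} {c : F} (h : EichOK B P.p (w : V) c) :
    (eG H hV P.p (w : V) c).1.1 P.r = (w : V) + c • P.p + (1 : F) • P.r := by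
  rw [eG_coe, eich_apply H h, P.hpr, P.wr H]
  simp only [one_smul, mul_one, sub_zero]
  abel

/-- An element of the root group is determined by the image of the second vector of the pair. -/
theorem qSub_ext {g g' : ↥(utGroup H)} (hg : g ∈ qSub H hV P.p) (hg' : g' ∈ qSub H hV P.p)
    (e : g.1.1 P.r = g'.1.1 P.r) : g = g' := by
  obtain ⟨w, c, hok, rfl⟩ := (mem_qSub H hV P.hpp).1 hg
  obtain ⟨w', c', hok', rfl⟩ := (mem_qSub H hV P.hpp).1 hg'
  obtain ⟨w0, c0, hok0, e0⟩ := P.eich_norm H hok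
  obtain ⟨w0', c0', hok0', e0'⟩ := P.eich_norm H hok'
  have e1 : eG H hV P.p w c = eG H hV P.p (w0 : V) c0 := Subtype.ext e0
  have e1' : eG H hV P.p w' c' = eG H hV P.p (w0' : V) c0' := Subtype.ext e0'
  rw [e1, e1'] at e ⊢
  rw [root_image H hV P hok0, root_image H hV P hok0', ← P.split_symm_apply H (w0, c0, 1),
    ← P.split_symm_apply H (w0', c0', 1)] at e
  obtain ⟨rfl, e'⟩ := Prod.mk.inj ((P.split H).symm.injective e)
  obtain ⟨rfl, -⟩ := Prod.mk.inj e'
  rfl

variable (R : UPair P.form)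

theorem tv_ok {d : F} (hd : d + qFrob hF d = 0) : EichOK B (R.p : V) 0 d := transv_ok H R.hpp hd

theorem tv_apply {d : F} (hd : d + qFrob hF d = 0) (z : V) :
    (eG H hV (R.p : V) 0 d).1.1 z = z + (d * B (R.p : V) z) • (R.p : V) :=
  transv_apply H R.hpp hd z

theorem tv_p {d : F} (hd : d + qFrob hF d = 0) : (eG H hV (R.p : V) 0 d).1.1 P.p = P.p := by
  rw [tv_apply H hV P R hd, P.wp H]; simp

theorem tv_r {d : F} (hd : d + qFrob hF d = 0) : (eG H hV (R.p : V) 0 d).1.1 P.r = P.r := by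
  rw [tv_apply H hV P R hd, P.wr H]; simp

theorem tv_conj {d : F} (hd : d + qFrob hF d = 0) (w : P.W) (c : F) (h : EichOK B P.p (w : V) c) :
    ∃ w' : P.W, EichOK B P.p (w' : V) c ∧
      eG H hV (R.p : V) 0 d * eG H hV P.p (w : V) c * (eG H hV (R.p : V) 0 d)⁻¹ =
        eG H hV P.p (w' : V) c := by
  refine ⟨w + (d * P.form R.p w) • R.p, ?_, ?_⟩
  · refine ⟨P.hpp, P.pw _, ?_⟩
    have e : ((w + (d * P.form R.p w) • R.p : P.W) : V) = (eG H hV (R.p : V) 0 d).1.1 (w : V) :=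
      (tv_apply H hV P R hd _).symm
    rw [e, (eG H hV (R.p : V) 0 d).1.2]
    exact h.2.2
  · rw [eG_conj, tv_p H hV P R hd, tv_apply H hV P R hd]
    rfl

/-- The unipotent group of a totally isotropic line. -/
noncomputable def lineU : Subgroup ↥(utGroup H) where
  carrier := {g | ∃ (w : P.W) (c d : F), EichOK B P.p (w : V) c ∧ d + qFrob hF d = 0 ∧
    g = eG H hV P.p (w : V) c * eG H hV (R.p : V) 0 d}
  one_mem' := ⟨0, 0, 0, transv_ok H P.hpp (by simp), by simp, by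
    rw [Submodule.coe_zero, eG_zero H hV, eG_zero H hV, one_mul]⟩
  mul_mem' {a b} ha hb := by
    obtain ⟨w, c, d, hw, hd, rfl⟩ := ha
    obtain ⟨w', c', d', hw', hd', rfl⟩ := hb
    obtain ⟨w'', hw'', e⟩ := tv_conj H hV P R hd w' c' hw'
    refine ⟨w + w'', _, d + d', hw.add H hw'', by rw [map_add]; linear_combination hd + hd', ?_⟩
    have ht := eG_mul H hV (tv_ok H P R hd) (tv_ok H P R hd')
    simp only [add_zero, map_zero, sub_zero] at ht
    rw [Submodule.coe_add, ← eG_mul H hV hw hw'', ← e, ← ht]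
    group
  inv_mem' {a} ha := by
    obtain ⟨w, c, d, hw, hd, rfl⟩ := ha
    have hd2 : qFrob hF d + qFrob hF (qFrob hF d) = 0 := by rw [H.invol]; linear_combination hd
    obtain ⟨w', hw', e⟩ := tv_conj H hV P R hd2 (-w) (qFrob hF c) (hw.neg H)
    refine ⟨w', _, qFrob hF d, hw', hd2, ?_⟩
    have ht : (eG H hV (R.p : V) 0 d)⁻¹ = eG H hV (R.p : V) 0 (qFrob hF d) := by
      rw [eG_inv H hV (tv_ok H P R hd), neg_zero]
    rw [← e, Submodule.coe_neg, ← eG_inv H hV hw, mul_inv_rev, ht]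
    group

theorem mem_lineU {g : ↥(utGroup H)} :
    g ∈ lineU H hV P R ↔ ∃ (w : P.W) (c d : F), EichOK B P.p (w : V) c ∧ d + qFrob hF d = 0 ∧
      g = eG H hV P.p (w : V) c * eG H hV (R.p : V) 0 d := Iff.rfl

theorem card_lineU : Nat.card (lineU H hV P R) = Nat.card P.W * q * q := by
  have := finite_utGroup H
  have hmem : ∀ x : ↥(qSub H hV P.p) × skewF hF,
      (x.1 : ↥(utGroup H)) * eG H hV (R.p : V) 0 x.2 ∈ lineU H hV P R := fun x => by
    obtain ⟨w, c, hok, e⟩ := (mem_qSub H hV P.hpp).1 x.1.2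
    obtain ⟨w0, c0, hok0, e0⟩ := P.eich_norm H hok
    exact ⟨w0, c0, x.2, hok0, x.2.2, by rw [e, show eG H hV P.p w c = eG H hV P.p (w0 : V) c0 from Subtype.ext e0]⟩
  rw [← card_qSub H hV P]
  refine Eq.trans ?_ (congrArg (Nat.card ↥(qSub H hV P.p) * ·) (card_skewF hF))
  rw [← Nat.card_prod]
  refine (Nat.card_congr (Equiv.ofBijective (fun x => (⟨_, hmem x⟩ : lineU H hV P R)) ⟨?_, ?_⟩)).symm
  · rintro ⟨g, d⟩ ⟨g', d'⟩ e
    have e' : (g : ↥(utGroup H)) * eG H hV (R.p : V) 0 d = g' * eG H hV (R.p : V) 0 d' :=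
      congrArg Subtype.val e
    have h1 := congrArg (fun k : ↥(utGroup H) => k.1.1 P.r) e'
    simp only [ut_mul_apply, tv_r H hV P R d.2, tv_r H hV P R d'.2] at h1
    obtain rfl : g = g' := Subtype.ext (qSub_ext H hV P g.2 g'.2 h1)
    have h2 := congrArg (fun k : ↥(utGroup H) => k.1.1 (R.r : V)) (mul_left_cancel e')
    have hpr : B (R.p : V) (R.r : V) = 1 := R.hpr
    simp only [tv_apply H hV P R d.2, tv_apply H hV P R d'.2, hpr, mul_one, add_right_inj] at h2
    exact Prod.ext rfl (Subtype.ext (smul_left_injective F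
      (fun h => R.hp0 (Subtype.ext h) : (R.p : V) ≠ 0) h2))
  · rintro ⟨g, w, c, d, hw, hd, rfl⟩
    exact ⟨(⟨_, eG_mem_qSub H hV hw⟩, ⟨d, hd⟩), rfl⟩

/-- The shift of an element of the line's group. -/
noncomputable def rho (g : ↥(utGroup H)) : F := B (R.p : V) (g.1.1 P.r)

theorem lineU_fix_p {g : ↥(utGroup H)} (hg : g ∈ lineU H hV P R) : g.1.1 P.p = P.p := by
  obtain ⟨w, c, d, hw, hd, rfl⟩ := hg
  rw [ut_mul_apply, tv_p H hV P R hd, eG_fix_p H hV P hw]

theorem lineU_move_v {g : ↥(utGroup H)} (hg : g ∈ lineU H hV P R) :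
    ∃ e : F, g.1.1 (R.p : V) = (R.p : V) + e • P.p := by
  obtain ⟨w, c, d, hw, hd, rfl⟩ := hg
  have hvv : B (R.p : V) (R.p : V) = 0 := R.hpp
  refine ⟨-B (w : V) (R.p : V), ?_⟩
  rw [ut_mul_apply, tv_apply H hV P R hd, hvv, mul_zero, zero_smul, add_zero, eG_coe, eich_apply H hw,
    P.pw]
  simp

theorem rho_eq {w : P.W} {c d : F} (hw : EichOK B P.p (w : V) c) (hd : d + qFrob hF d = 0) :
    rho H P R (eG H hV P.p (w : V) c * eG H hV (R.p : V) 0 d) = P.form R.p w := by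
  rw [rho, ut_mul_apply, tv_r H hV P R hd, root_image H hV P hw, P.form_apply]
  simp [P.wp H, P.wr H]

theorem rho_mul {g g' : ↥(utGroup H)} (hg : g ∈ lineU H hV P R) (hg' : g' ∈ lineU H hV P R) :
    rho H P R (g * g') = rho H P R g + rho H P R g' := by
  obtain ⟨e, he⟩ := lineU_move_v H hV P R (inv_mem hg)
  have key : ∀ k : ↥(utGroup H), rho H P R (g * k) = B ((R.p : V) + e • P.p) (k.1.1 P.r) := fun k => by
    rw [rho, ut_mul_apply, ← he, ← g.1.2 (g⁻¹.1.1 (R.p : V)) (k.1.1 P.r), ut_inv_apply,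
      LinearEquiv.apply_symm_apply]
  have h1 : rho H P R g = B ((R.p : V) + e • P.p) P.r := by
    have := key 1
    rwa [mul_one] at this
  have h2 : B P.p (g'.1.1 P.r) = 1 := by
    conv_lhs => rw [← lineU_fix_p H hV P R hg']
    rw [g'.1.2, P.hpr]
  rw [key, h1]
  simp only [map_add, map_smulₛₗ, LinearMap.add_apply, LinearMap.smul_apply, smul_eq_mul, h2, P.hpr,
    rho, P.wr H]
  ring

/-- The element with given parameters on the line. -/
noncomputable def dElt (z : F × F × F) : ↥(utGroup H) :=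
  eG H hV P.p (z.2.1 • (R.p : V)) z.1 * eG H hV (R.p : V) 0 z.2.2

theorem line_ok (β : F) {c : F} (hc : c + qFrob hF c = 0) : EichOK B P.p (β • (R.p : V)) c := by
  have hvv : B (R.p : V) (R.p : V) = 0 := R.hpp
  exact ⟨P.hpp, by simp [map_smul, P.pw], by simpa [map_smulₛₗ, hvv] using hc⟩

theorem dElt_zero : dElt H hV P R 0 = 1 := by
  simp [dElt, eG_zero H hV]

theorem dElt_comm {d : F} (hd : d + qFrob hF d = 0) (β c : F) :
    eG H hV (R.p : V) 0 d * eG H hV P.p (β • (R.p : V)) c =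
      eG H hV P.p (β • (R.p : V)) c * eG H hV (R.p : V) 0 d := by
  have hvv : B (R.p : V) (R.p : V) = 0 := R.hpp
  rw [← mul_inv_eq_iff_eq_mul, eG_conj, tv_p H hV P R hd, map_smul, tv_apply H hV P R hd, hvv]
  simp

theorem dElt_add {z z' : F × F × F} (hz : z.1 + qFrob hF z.1 = 0 ∧ z.2.2 + qFrob hF z.2.2 = 0)
    (hz' : z'.1 + qFrob hF z'.1 = 0 ∧ z'.2.2 + qFrob hF z'.2.2 = 0) :
    dElt H hV P R (z + z') = dElt H hV P R z * dElt H hV P R z' := by
  have hvv : B (R.p : V) (R.p : V) = 0 := R.hpp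
  have e1 := eG_mul H hV (line_ok H P R z.2.1 hz.1) (line_ok H P R z'.2.1 hz'.1)
  have e2 := eG_mul H hV (tv_ok H P R hz.2) (tv_ok H P R hz'.2)
  simp only [add_zero, map_zero, sub_zero] at e2
  simp only [map_smulₛₗ, LinearMap.smul_apply, hvv, smul_zero, sub_zero, ← add_smul] at e1
  show eG H hV P.p ((z + z').2.1 • (R.p : V)) (z + z').1 * eG H hV (R.p : V) 0 (z + z').2.2 = _
  simp only [Prod.fst_add, Prod.snd_add]
  rw [← e1, ← e2, dElt, dElt, mul_assoc, mul_assoc, ← mul_assoc (eG H hV (R.p : V) 0 z.2.2),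
    dElt_comm H hV P R hz.2, mul_assoc]

variable {X : Type w} [MulAction ↥(utGroup H) X]

/-- The line parameters fixing a point. -/
noncomputable def lineD (x : X) : AddSubgroup (F × F × F) where
  carrier := {z | (z.1 + qFrob hF z.1 = 0 ∧ z.2.2 + qFrob hF z.2.2 = 0) ∧ dElt H hV P R z • x = x}
  zero_mem' := ⟨by simp, by rw [dElt_zero, one_smul]⟩
  add_mem' {a b} ha hb := by
    refine ⟨⟨?_, ?_⟩, ?_⟩
    · simp only [Prod.fst_add, map_add]; linear_combination ha.1.1 + hb.1.1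
    · simp only [Prod.snd_add, map_add]; linear_combination ha.1.2 + hb.1.2
    · rw [dElt_add H hV P R ha.1 hb.1, mul_smul, hb.2, ha.2]
  neg_mem' {a} ha := by
    have hn : (-a).1 + qFrob hF (-a).1 = 0 ∧ (-a).2.2 + qFrob hF (-a).2.2 = 0 := by
      simp only [Prod.fst_neg, Prod.snd_neg, map_neg]
      exact ⟨by linear_combination -ha.1.1, by linear_combination -ha.1.2⟩
    refine ⟨hn, ?_⟩
    have h1 := dElt_add H hV P R ha.1 hn
    rw [add_neg_cancel, dElt_zero] at h1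
    rw [eq_inv_of_mul_eq_one_right h1.symm, inv_smul_eq_iff]
    exact ha.2.symm

theorem mem_lineD {x : X} {z : F × F × F} : z ∈ lineD H hV P R x ↔
    (z.1 + qFrob hF z.1 = 0 ∧ z.2.2 + qFrob hF z.2.2 = 0) ∧ dElt H hV P R z • x = x := Iff.rfl

/-- The shifts of the line's group fixing a point. -/
noncomputable def lineR (x : X) : AddSubgroup F where
  carrier := {b | ∃ g ∈ lineU H hV P R, g • x = x ∧ rho H P R g = b}
  zero_mem' := ⟨1, one_mem _, one_smul _ x, P.wr H _⟩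
  add_mem' {a b} ha hb := by
    obtain ⟨g, hg, hgx, rfl⟩ := ha
    obtain ⟨g', hg', hgx', rfl⟩ := hb
    exact ⟨g * g', mul_mem hg hg', by rw [mul_smul, hgx', hgx], rho_mul H hV P R hg hg'⟩
  neg_mem' {a} ha := by
    obtain ⟨g, hg, hgx, rfl⟩ := ha
    refine ⟨g⁻¹, inv_mem hg, by rw [inv_smul_eq_iff, hgx], ?_⟩
    have h := rho_mul H hV P R hg (inv_mem hg)
    rw [mul_inv_cancel, show rho H P R 1 = 0 from P.wr H _] at h
    exact eq_neg_of_add_eq_zero_right h.symm

/-- The stabilizer is bounded by its shifts and its line parameters. -/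
theorem card_stab_le (hk : Module.finrank F P.W = 2) (x : X) :
    Nat.card ↥(lineU H hV P R ⊓ MulAction.stabilizer ↥(utGroup H) x) ≤
      Nat.card (lineR H hV P R x) * Nat.card (lineD H hV P R x) := by
  have := finite_utGroup H
  choose s hs hsx hsb using fun b : lineR H hV P R x => b.2
  rw [← Nat.card_prod]
  refine Nat.card_le_card_of_surjective (fun bz : lineR H hV P R x × lineD H hV P R x =>
    (⟨s bz.1 * dElt H hV P R bz.2.1, mul_mem (hs bz.1) ?_, ?_⟩ :
      ↥(lineU H hV P R ⊓ MulAction.stabilizer ↥(utGroup H) x))) ?_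
  · obtain ⟨⟨h1, h2⟩, -⟩ := bz.2.2
    exact ⟨bz.2.1.2.1 • R.p, bz.2.1.1, bz.2.1.2.2, line_ok H P R _ h1, h2, rfl⟩
  · show _ • x = x
    rw [mul_smul, bz.2.2.2, hsx]
  rintro ⟨g, hgU, hgx⟩
  obtain ⟨b0, hb0⟩ : ∃ b0 : lineR H hV P R x, (b0 : F) = rho H P R g :=
    ⟨⟨_, g, hgU, hgx, rfl⟩, rfl⟩
  obtain ⟨k, hk'⟩ : ∃ k, k = (s b0)⁻¹ * g := ⟨_, rfl⟩
  have hkU : k ∈ lineU H hV P R := hk' ▸ mul_mem (inv_mem (hs _)) hgU
  have hk0 : rho H P R k = 0 := by
    have h := rho_mul H hV P R (hs b0) hkU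
    rw [hk', mul_inv_cancel_left, hsb, hb0] at h
    rw [hk']
    exact left_eq_add.1 h
  obtain ⟨w, c, d, hw, hd, e⟩ := hkU
  rw [e, rho_eq H hV P R hw hd] at hk0
  have hwv : w = P.form R.r w • R.p := by
    have h := two_decomp (P.isHerm H) R hk w
    rwa [hk0, zero_smul, add_zero] at h
  have hz : (c, P.form R.r w, d) ∈ lineD H hV P R x := by
    have hgx' : g • x = x := hgx
    have hkx : k • x = x := by rw [hk', mul_smul, hgx', inv_smul_eq_iff, hsx]
    refine ⟨⟨?_, hd⟩, ?_⟩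
    · have h := hw.2.2
      have hvv : B (R.p : V) (R.p : V) = 0 := R.hpp
      rw [hwv] at h
      simpa [map_smulₛₗ, hvv] using h
    · rwa [dElt, ← Submodule.coe_smul, ← hwv, ← e]
  refine ⟨(b0, ⟨_, hz⟩), Subtype.ext ?_⟩
  show _ * dElt H hV P R _ = g
  rw [dElt, ← Submodule.coe_smul, ← hwv, ← e, hk', mul_inv_cancel_left]

/-- Conjugation of the line parameters by the stabilizer. -/
theorem lineD_conj {x : X} {z : F × F × F} (hz : z ∈ lineD H hV P R x) {b : F}
    (hb : b ∈ lineR H hV P R x) :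
    (z.1 + qFrob hF z.2.1 * b - z.2.1 * qFrob hF b + qFrob hF b * b * z.2.2,
      z.2.1 - b * z.2.2, z.2.2) ∈ lineD H hV P R x := by
  obtain ⟨c1, β, d⟩ := z
  obtain ⟨⟨hc1, hd⟩, hzx⟩ := hz
  obtain ⟨g, hgU, hgx, rfl⟩ := hb
  simp only at hc1 hd hzx ⊢
  obtain ⟨w, c, d', hw, hd', rfl⟩ := hgU
  rw [rho_eq H hV P R hw hd']
  obtain ⟨b, hb⟩ : ∃ b, b = P.form R.p w := ⟨_, rfl⟩
  rw [← hb]
  have hvv : B (R.p : V) (R.p : V) = 0 := R.hpp
  have hsd : qFrob hF d = -d := by linear_combination hd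
  have hwv : B (w : V) (R.p : V) = qFrob hF b := by rw [hb, P.form_apply, H.conj]
  obtain ⟨Q, hQ⟩ : ∃ Q, Q = eG H hV P.p (w : V) c := ⟨_, rfl⟩
  rw [← hQ] at hgx
  have hQv : Q.1.1 (R.p : V) = (R.p : V) + (-qFrob hF b) • P.p := by
    rw [hQ, eG_coe, eich_apply H hw, P.pw, hwv]; simp
  have h1 : Q * eG H hV P.p (β • (R.p : V)) c1 * Q⁻¹ =
      eG H hV P.p (β • (R.p : V)) (c1 + qFrob hF β * b - β * qFrob hF b) := by
    rw [eG_conj, map_smul, hQv, hQ, eG_fix_p H hV P hw, smul_add, smul_smul]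
    have hok : EichOK B P.p (β • (R.p : V) + (β * -qFrob hF b) • P.p) c1 := by
      refine ⟨P.hpp, by simp [map_smul, P.pw, P.hpp], ?_⟩
      simpa [map_smulₛₗ, hvv, P.hpp, P.pw, P.wp H] using hc1
    refine Subtype.ext ((eich_shift H hok).2.trans ?_)
    rw [eG_coe]
    congr 1
    simp only [map_mul, map_neg, H.invol]
    ring
  have h2 : Q * eG H hV (R.p : V) 0 d * Q⁻¹ = dElt H hV P R (qFrob hF b * b * d, -(b * d), d) := by
    rw [eG_conj, map_zero, hQv]
    by_cases hd0 : d = 0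
    · subst hd0
      simp only [mul_zero, neg_zero, dElt, zero_smul, eG_zero H hV, mul_one]
    have h := (line_elt H hV P (v := R.p) hvv (β := -(b * d)) (δ := 0) (c1 := qFrob hF b * b * d) hd0 hd
      (by rw [map_mul, map_mul, H.invol, hsd]; ring)
      (by rw [map_neg, map_mul, hsd, mul_zero]; field_simp; ring)).2
    rw [mul_zero, neg_zero, zero_smul, add_zero] at h
    rw [dElt, h]
    congr 2
    rw [map_neg, map_mul, hsd]
    field_simp
  have hS : (c1 + qFrob hF β * b - β * qFrob hF b) + qFrob hF (c1 + qFrob hF β * b - β * qFrob hF b) = 0 := by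
    simp only [map_sub, map_add, map_mul, H.invol]; linear_combination hc1
  have hS' : qFrob hF b * b * d + qFrob hF (qFrob hF b * b * d) = 0 := by
    rw [map_mul, map_mul, H.invol, hsd]; ring
  have hsum : dElt H hV P R (c1 + qFrob hF β * b - β * qFrob hF b + qFrob hF b * b * d, β - b * d, d) =
      (Q * eG H hV (R.p : V) 0 d') * dElt H hV P R (c1, β, d) * (Q * eG H hV (R.p : V) 0 d')⁻¹ := by
    have hc : eG H hV (R.p : V) 0 d' * dElt H hV P R (c1, β, d) =
        dElt H hV P R (c1, β, d) * eG H hV (R.p : V) 0 d' := by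
      have e2 := eG_mul H hV (tv_ok H P R hd') (tv_ok H P R hd)
      have e3 := eG_mul H hV (tv_ok H P R hd) (tv_ok H P R hd')
      rw [dElt, ← mul_assoc, dElt_comm H hV P R hd', mul_assoc, mul_assoc, e2, e3]
      congr 2
      simp [add_comm]
    have e4 := dElt_add H hV P R (z := (c1 + qFrob hF β * b - β * qFrob hF b, β, 0))
      (z' := (qFrob hF b * b * d, -(b * d), d)) ⟨hS, by simp⟩ ⟨hS', hd⟩
    simp only [Prod.mk_add_mk, zero_add, ← sub_eq_add_neg] at e4
    rw [e4, ← h2]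
    conv_lhs => rw [dElt, eG_zero H hV, mul_one]; rw [← h1]
    rw [mul_assoc Q (eG H hV (R.p : V) 0 d'), hc, dElt]
    group
  refine ⟨⟨?_, hd⟩, ?_⟩
  · simp only [map_add] at hS hS' ⊢
    linear_combination hS + hS'
  · rw [hsum, mul_smul, mul_smul]
    nth_rw 1 [← hgx]
    rw [inv_smul_smul, hzx, hgx]

variable (hfree : ∀ (v : V) (c : F) (x : X), v ≠ 0 → B v v = 0 → c + qFrob hF c = 0 → c ≠ 0 →
  eG H hV v 0 c • x ≠ x)
include hfree

theorem lineD_free {x : X} : ∀ z ∈ lineD H hV P R x, z ≠ 0 → qd hF z ≠ 0 := by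
  rintro ⟨c1, β, d⟩ ⟨⟨hc1, hd⟩, hzx⟩ hz0 hq0
  simp only [qd] at hc1 hd hzx hq0
  have hvv : B (R.p : V) (R.p : V) = 0 := R.hpp
  by_cases hd0 : d = 0
  · subst hd0
    rw [mul_zero, zero_add, mul_eq_zero, map_eq_zero, or_self] at hq0
    subst hq0
    have hc0 : c1 ≠ 0 := fun h => hz0 (by rw [h]; rfl)
    refine hfree P.p c1 x P.hp0 P.hpp hc1 hc0 ?_
    simpa [dElt, eG_zero H hV] using hzx
  · obtain ⟨hok, e⟩ := line_elt H hV P (v := R.p) hvv (β := β) (δ := 0) (c1 := c1) hd0 hd hc1 (by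
      rw [mul_zero, eq_comm, div_eq_zero_iff, neg_eq_zero]
      left
      field_simp
      linear_combination hq0)
    rw [mul_zero, neg_zero, zero_smul, add_zero] at hok e
    refine hfree _ d x (fun h => ?_) hok.1 hd hd0 ?_
    · have h1 := congrArg (B (R.r : V)) h
      have hrp : B (R.r : V) (R.p : V) = 1 := R.hrp (P.isHerm H)
      simp [hrp, P.wp H] at h1
    · rw [← e]; exact hzx

theorem card_lineD_le (x : X) : Nat.card (lineD H hV P R x) ≤ q ^ 2 :=
  card_le_of_free hF _ (fun _ h => h.1) (lineD_free H hV P R hfree)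

end CfsgLib.MinIdxU
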