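import Cfsg.Agent.Lib.MinIdxU.FourExact
import Cfsg.Agent.Lib.MinIdxU.Transfer

/-!
# The minimal index of `PSU₄(q)` is attained by the stabilizer of a totally isotropic line
-/

set_option autoImplicit false
set_option linter.unusedSectionVars false

namespace CfsgLib.MinIdxU

open CfsgLib.Classical CfsgLib.Geom
open scoped Pointwise

universe u v

variable {F : Type u} [Field F] [Fintype F] {q : ℕ} {hF : Fintype.card F = q ^ 2}
variable {V : Type v} [AddCommGroup V] [Module F V] [FiniteDimensional F V]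
variable {B : V →ₛₗ[qFrob hF] V →ₗ[F] F} (H : IsHermSpace B)

include H in
/-- At most `q + 1` totally isotropic lines pass through a point. -/
theorem lines_through_le (hn : Module.finrank F V = 4) (O : Finset (Submodule F V))
    (hO : ∀ L ∈ O, Module.finrank F L = 2 ∧ ∀ a ∈ L, ∀ b ∈ L, B a b = 0) {v : V} (hv0 : v ≠ 0)
    (hvv : B v v = 0) (hvO : ∀ L ∈ O, v ∈ L) : O.card ≤ q + 1 := by
  classical
  have := finite_V H
  obtain ⟨Q, rfl⟩ := exists_pair_at H hv0 hvv
  have hk : Module.finrank F Q.W = 2 := by have := Q.finrank_W H; omega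
  have hz : ∀ L : O, ∃ z : Q.W, z ≠ 0 ∧ Q.form z z = 0 ∧ (z : V) ∈ L.1 ∧
      L.1 = Submodule.span F {Q.p, (z : V)} := by
    rintro ⟨L, hL⟩
    obtain ⟨hrank, hiso⟩ := hO L hL
    obtain ⟨u, hu, hun⟩ : ∃ u ∈ L, u ∉ Submodule.span F {Q.p} := by
      by_contra hc
      push Not at hc
      have h1 : L ≤ Submodule.span F {Q.p} := hc
      have h2 := Submodule.finrank_mono h1
      rw [finrank_span_singleton hv0, hrank] at h2
      omega
    obtain ⟨z, a, rfl⟩ := Q.perp_decomp H (hiso _ (hvO L hL) _ hu)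
    have hzL : (z : V) ∈ L := by
      have := L.sub_mem hu (L.smul_mem a (hvO L hL))
      simpa using this
    have hz0 : z ≠ 0 := fun h => hun (by
      rw [h, Submodule.coe_zero, zero_add]
      exact Submodule.smul_mem _ _ (Submodule.mem_span_singleton_self _))
    refine ⟨z, hz0, hiso _ hzL _ hzL, hzL, (Submodule.eq_of_le_of_finrank_le ?_ ?_).symm⟩
    · rw [Submodule.span_le]
      intro w hw
      rcases hw with rfl | rfl
      · exact hvO L hL
      · exact hzL
    · have hli : LinearIndependent F ![Q.p, (z : V)] := by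
        refine (LinearIndependent.pair_iff' hv0).2 fun b hb => hz0 ?_
        have h1 := congrArg (fun w => (Q.split H w).1) hb
        have e1 : Q.split H (z : V) = (z, 0, 0) := by
          rw [← (Q.split H).eq_symm_apply, Q.split_symm_apply H]; simp
        have e2 : Q.split H (b • Q.p) = (0, b, 0) := by
          rw [← (Q.split H).eq_symm_apply, Q.split_symm_apply H]; simp
        simp only [e1, e2] at h1
        exact h1.symm
      have h2 := finrank_span_eq_card hli
      rw [Matrix.range_cons, Matrix.range_cons, Matrix.range_empty, Set.union_empty,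
        Set.singleton_union, Fintype.card_fin] at h2
      rw [hrank, h2]
  choose z hz0 hzz hzL hzspan using hz
  have hcard := card_iso (Q.isHerm H)
  rw [hk, show nIso q 2 = q + 1 by simp [nIso]; ring] at hcard
  have hle : Nat.card O * Nat.card Fˣ ≤ Nat.card {z : Q.W // z ≠ 0 ∧ Q.form z z = 0} := by
    rw [← Nat.card_prod]
    refine Nat.card_le_card_of_injective (fun La : O × Fˣ => (⟨(La.2 : F) • z La.1,
      smul_ne_zero La.2.ne_zero (hz0 _), by simp [map_smulₛₗ, hzz]⟩ : {z : Q.W // z ≠ 0 ∧ Q.form z z = 0}))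
      ?_
    rintro ⟨L, a⟩ ⟨L', a'⟩ e
    have e' : (a : F) • z L = (a' : F) • z L' := congrArg Subtype.val e
    obtain rfl : L = L' := by
      refine Subtype.ext ?_
      have h1 : (z L : V) ∈ L'.1 := by
        have h2 : z L = ((a : F)⁻¹ * a') • z L' := by rw [mul_smul, ← e', inv_smul_smul₀ a.ne_zero]
        rw [h2, Submodule.coe_smul]
        exact L'.1.smul_mem _ (hzL L')
      have h3 : L.1 ≤ L'.1 := by
        rw [hzspan L, Submodule.span_le]
        intro w hw
        rcases hw with rfl | rfl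
        · exact hvO _ L'.2
        · exact h1
      exact Submodule.eq_of_le_of_finrank_le h3 (by rw [(hO _ L.2).1, (hO _ L'.2).1])
    exact Prod.ext rfl (Units.ext (smul_left_injective F (hz0 L) e'))
  rw [hcard, Nat.card_units, Nat.card_eq_fintype_card (α := F), hF, Nat.card_eq_finsetCard,
    mul_comm] at hle
  exact Nat.le_of_mul_le_mul_left hle (by
    have h4 : 2 * 2 ≤ q ^ 2 := by rw [sq]; exact Nat.mul_le_mul (two_le_of_card_sq hF) (two_le_of_card_sq hF)
    omega)

theorem minIdx_four {F : Type u} [Field F] [Fintype F] {q : ℕ} {hF : Fintype.card F = q ^ 2}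
    {V : Type v} [AddCommGroup V] [Module F V] [FiniteDimensional F V]
    {B : V →ₛₗ[qFrob hF] V →ₗ[F] F} (H : IsHermSpace B) (hn : Module.finrank F V = 4) :
    MinIdx ↥(utGroup H) ((q + 1) * (q ^ 3 + 1)) := by
  have := finite_utGroup H
  exact minIdx_of_transitive fun K _ _ hX =>
    four_degree_ge H (gen_of_four (B := B) (by omega)) (X := ↥(utGroup H) ⧸ K) hn hX

/-- The stabilizer of a totally isotropic line. -/
theorem psu_four_attained {F : Type u} [Field F] [Fintype F] {q : ℕ} (hF : Fintype.card F = q ^ 2) :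
    ∃ J : Subgroup (Cfsg.PSU 4 F q), J.index = (q + 1) * (q ^ 3 + 1) := by
  classical
  let H := isHermSpace_hermB hF 4
  let G := ↥(utGroup H)
  have hn : Module.finrank F (Fin 4 → F) = 4 := by simp
  have hV : Gen (hermB hF 4) := gen_of_four (B := hermB hF 4) (by omega)
  have := finite_utGroup H
  have := finite_V H
  have := Fintype.ofFinite (Fin 4 → F)
  have hq := two_le_of_card_sq hF
  let e := suEquiv hF (show 3 ≤ 4 by norm_num) (show ¬ (4 = 3 ∧ q = 2) by omega)
  obtain ⟨P⟩ := exists_pair H hV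
  obtain ⟨R⟩ := exists_pair_two (P.isHerm H) (by have := P.finrank_W H; omega)
  obtain ⟨L0, hL0⟩ : ∃ L0, L0 = Submodule.span F ({P.p, (R.p : Fin 4 → F)} : Set (Fin 4 → F)) := ⟨_, rfl⟩
  have hL0iso : ∀ a ∈ L0, ∀ b ∈ L0, hermB hF 4 a b = 0 := by
    intro a ha b hb
    rw [hL0, Submodule.mem_span_pair] at ha hb
    obtain ⟨c, d, rfl⟩ := ha
    obtain ⟨c', d', rfl⟩ := hb
    have hvv : hermB hF 4 (R.p : Fin 4 → F) (R.p : Fin 4 → F) = 0 := R.hpp
    simp [map_smulₛₗ, P.hpp, P.pw, P.wp H, hvv]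
  have hL0r : Module.finrank F L0 = 2 := by
    have hli : LinearIndependent F ![P.p, (R.p : Fin 4 → F)] := by
      refine (LinearIndependent.pair_iff' P.hp0).2 fun b hb => R.hp0 (Subtype.ext ?_)
      have h1 := congrArg (hermB hF 4 P.r) hb
      rw [map_smul, P.hrp H, smul_eq_mul, mul_one, P.rw0] at h1
      rw [← hb, h1, zero_smul]
      rfl
    rw [hL0]
    have h2 := finrank_span_eq_card hli
    rwa [Matrix.range_cons, Matrix.range_cons, Matrix.range_empty, Set.union_empty,
      Set.singleton_union, Fintype.card_fin] at h2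
  letI : MulAction G (Submodule F (Fin 4 → F)) :=
    { smul := fun g L => L.map g.1.1.toLinearMap
      one_smul := fun L => Submodule.map_id L
      mul_smul := fun g g' L => Submodule.map_comp g'.1.1.toLinearMap g.1.1.toLinearMap L }
  have hsmul : ∀ (g : G) (L : Submodule F (Fin 4 → F)), g • L = L.map g.1.1.toLinearMap := fun _ _ => rfl
  let J0 : Subgroup (Cfsg.SU 4 F q) := (MulAction.stabilizer G L0).comap e.toMonoidHom
  have hcenter : Subgroup.center (Cfsg.SU 4 F q) ≤ J0 := by
    intro z hz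
    have hz' : e z ∈ Subgroup.center G := by
      rw [Subgroup.mem_center_iff]
      intro g
      obtain ⟨g, rfl⟩ := e.surjective g
      rw [← map_mul, ← map_mul, Subgroup.mem_center_iff.1 hz g]
    obtain ⟨a, ha⟩ := (mem_center_utGroup_iff H (by omega) _).1 hz'
    show e z • L0 = L0
    rw [hsmul]
    refine Submodule.eq_of_le_of_finrank_le ?_ ?_
    · rintro _ ⟨w, hw, rfl⟩
      show (e z).1.1 w ∈ L0
      rw [ha w]
      exact L0.smul_mem a hw
    · rw [LinearEquiv.finrank_map_eq]
  have hne : MulAction.stabilizer G L0 ≠ ⊤ := by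
    intro htop
    obtain ⟨g, hg, hgp⟩ := ut_transitive H hV.1 hV.2 P.hpp P.hrr P.hp0 P.hr0
    have h1 : (⟨g, hg⟩ : G) • L0 = L0 := (htop ▸ Subgroup.mem_top _ : (⟨g, hg⟩ : G) ∈ MulAction.stabilizer G L0)
    have hpL : P.p ∈ L0 := hL0 ▸ Submodule.subset_span (Set.mem_insert _ _)
    have h2 : P.r ∈ L0 := by
      rw [← h1, hsmul]
      exact ⟨P.p, hpL, hgp⟩
    have h3 := hL0iso _ hpL _ h2
    rw [P.hpr] at h3
    exact one_ne_zero h3
  have hlow := minIdx_four H hn _ hne
  refine ⟨J0.map (QuotientGroup.mk' _), ?_⟩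
  rw [Subgroup.index_map_eq _ (QuotientGroup.mk'_surjective _) (by rw [QuotientGroup.ker_mk']; exact hcenter)]
  show ((MulAction.stabilizer G L0).comap e.toMonoidHom).index = _
  rw [(MulAction.stabilizer G L0).index_comap_of_surjective (f := e.toMonoidHom) e.surjective]
  refine le_antisymm ?_ hlow
  rw [MulAction.index_stabilizer]
  obtain ⟨O, hO⟩ : ∃ O : Finset (Submodule F (Fin 4 → F)), O = (Set.toFinite (MulAction.orbit G L0)).toFinset :=
    ⟨_, rfl⟩
  refine le_of_eq_of_le (b := O.card) (by rw [hO]; exact Set.ncard_eq_toFinset_card _ _) ?_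
  have hOp : ∀ L ∈ O, Module.finrank F L = 2 ∧ ∀ a ∈ L, ∀ b ∈ L, hermB hF 4 a b = 0 := by
    intro L hL
    rw [hO, Set.Finite.mem_toFinset] at hL
    obtain ⟨g, rfl⟩ := hL
    show Module.finrank F (L0.map g.1.1.toLinearMap : Submodule F (Fin 4 → F)) = 2 ∧ _
    refine ⟨by rw [LinearEquiv.finrank_map_eq, hL0r], ?_⟩
    rintro _ ⟨a, ha, rfl⟩ _ ⟨b, hb, rfl⟩
    show hermB hF 4 (g.1.1 a) (g.1.1 b) = 0
    rw [g.1.2]
    exact hL0iso a ha b hb
  obtain ⟨S, hS⟩ : ∃ S : Finset (Fin 4 → F), S = Finset.univ.filter fun v => v ≠ 0 ∧ hermB hF 4 v v = 0 :=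
    ⟨_, rfl⟩
  have hSc : S.card = (q ^ 4 - 1) * (q ^ 3 + 1) := by
    have h := card_iso H
    rw [hn, Nat.card_eq_fintype_card, Fintype.card_subtype] at h
    rw [hS, h, show nIso q 4 = (q ^ 2 + 1) * (q ^ 3 + 1) by simp [nIso]; ring, ← mul_assoc]
    congr 1
    zify [Nat.one_le_pow 2 q (by omega), Nat.one_le_pow 4 q (by omega)]
    ring
  have h1 : ∀ L ∈ O, (S.filter fun v => v ∈ L).card = q ^ 4 - 1 := by
    intro L hL
    obtain ⟨hr, hiso⟩ := hOp L hL
    have e1 : S.filter (fun v => v ∈ L) = (Finset.univ.filter fun v => v ∈ L).erase 0 := by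
      ext v
      simp only [hS, Finset.mem_filter, Finset.mem_univ, true_and, Finset.mem_erase]
      exact ⟨fun h => ⟨h.1.1, h.2⟩, fun h => ⟨⟨h.1, hiso v h.2 v h.2⟩, h.2⟩⟩
    rw [e1, Finset.card_erase_of_mem (by simp)]
    congr 1
    rw [← Nat.card_eq_finsetCard, Nat.card_congr (Equiv.subtypeEquivRight fun v => by simp : _ ≃ ↥L),
      Module.natCard_eq_pow_finrank (K := F), hr, Nat.card_eq_fintype_card, hF]
    ring
  have h2 : ∑ L ∈ O, (S.filter fun v => v ∈ L).card = ∑ v ∈ S, (O.filter fun L => v ∈ L).card := by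
    simp only [Finset.card_filter]
    exact Finset.sum_comm
  rw [Finset.sum_congr rfl h1, Finset.sum_const, smul_eq_mul] at h2
  have h3 : ∑ v ∈ S, (O.filter fun L => v ∈ L).card ≤ ∑ v ∈ S, (q + 1) :=
    Finset.sum_le_sum fun v hv => by
      rw [hS, Finset.mem_filter] at hv
      exact lines_through_le H hn _ (fun L hL => hOp L (Finset.mem_filter.1 hL).1) hv.2.1 hv.2.2
        fun L hL => (Finset.mem_filter.1 hL).2
  rw [← h2, Finset.sum_const, smul_eq_mul, hSc, mul_assoc, mul_comm (q ^ 4 - 1)] at h3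
  rw [mul_comm (q + 1)]
  exact Nat.le_of_mul_le_mul_right h3 (by
    have : 2 ^ 4 ≤ q ^ 4 := Nat.pow_le_pow_left hq 4
    omega)

end CfsgLib.MinIdxU
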