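import Cfsg.Agent.Lib.MinIdxU.Transfer
import Cfsg.Agent.Lib.Geom.SplitStab

/-!
# The transvection group of a unitary space in standard coordinates
-/

set_option autoImplicit false
set_option linter.unusedSectionVars false

namespace CfsgLib.MinIdxU

open CfsgLib.Classical CfsgLib.Geom

universe u v

variable {F : Type u} [Field F] [Fintype F] {q : ℕ} {hF : Fintype.card F = q ^ 2}
variable {V : Type v} [AddCommGroup V] [Module F V] [FiniteDimensional F V]
variable {B : V →ₛₗ[qFrob hF] V →ₗ[F] F} (H : IsHermSpace B) {n : ℕ}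
  (e : V ≃ₗ[F] (Fin n → F)) (he : ∀ x y, hermB hF n (e x) (e y) = B x y)
include H

theorem eich_congr (x : V) (c : F) :
    formIsomsCongr B (hermB hF n) e he (eich H x 0 c) = eich (isHermSpace_hermB hF n) (e x) 0 c := by
  have hiff : EichOK B x 0 c ↔ EichOK (hermB hF n) (e x) 0 c := by
    simp only [EichOK, map_zero, LinearMap.zero_apply, he]
  by_cases h : EichOK B x 0 c
  · refine herm_ext fun z => ?_
    show e ((eich H x 0 c).1 (e.symm z)) = _
    rw [eich_apply H h, eich_apply _ (hiff.1 h)]
    simp only [map_add, map_smul, map_zero, LinearMap.zero_apply, smul_zero, LinearEquiv.apply_symm_apply,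
      ← he, LinearEquiv.apply_symm_apply]
  · rw [eich_of_not H h, eich_of_not _ fun h' => h (hiff.2 h'), map_one]

theorem map_utGroup :
    (utGroup H).map (formIsomsCongr B (hermB hF n) e he).toMonoidHom =
      utGroup (isHermSpace_hermB hF n) := by
  unfold utGroup
  rw [MonoidHom.map_closure]
  congr 1
  ext g
  constructor
  · rintro ⟨_, ⟨⟨x, c⟩, rfl⟩, rfl⟩
    exact ⟨(e x, c), (eich_congr H e he x c).symm⟩
  · rintro ⟨⟨x, c⟩, rfl⟩
    exact ⟨_, ⟨(e.symm x, c), rfl⟩, (eich_congr H e he _ c).trans (by rw [e.apply_symm_apply])⟩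

/-- The transvection group is the group of the standard space. -/
noncomputable def utCongr : ↥(utGroup H) ≃* ↥(utGroup (isHermSpace_hermB hF n)) :=
  ((formIsomsCongr B (hermB hF n) e he).subgroupMap (utGroup H)).trans
    (MulEquiv.subgroupCongr (map_utGroup H e he))

omit H in
theorem minIdx_congr {G G' : Type*} [Group G] [Group G'] (f : G ≃* G') {T : ℕ} (h : MinIdx G' T) :
    MinIdx G T := fun K hK => by
  rw [← Subgroup.index_map_equiv (H := K) f]
  refine h _ fun ht => hK ?_
  have := congrArg (Subgroup.map f.symm.toMonoidHom) ht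
  rw [Subgroup.map_map, Subgroup.map_top_of_surjective _ f.symm.surjective] at this
  simpa using this

omit H

include H in
/-- Isometries of determinant one lie in the transvection group. -/
theorem mem_utGroup_of_det (hn : 3 ≤ Module.finrank F V) (h32 : ¬ (Module.finrank F V = 3 ∧ q = 2))
    (g : formIsoms B) (hdet : LinearMap.det (g.1 : V →ₗ[F] V) = 1) : g ∈ utGroup H := by
  obtain ⟨e, he⟩ := exists_isometry_hermB hF _ B H.conj H.sep rfl
  have h : formIsomsCongr B (hermB hF _) e he g ∈ utGroup (isHermSpace_hermB hF _) := by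
    rw [utGroup_eq_ker_hermDet hF hn h32, MonoidHom.mem_ker]
    refine Units.ext ?_
    show ((LinearEquiv.det (formIsomsCongr B (hermB hF _) e he g).1 : Fˣ) : F) = 1
    rw [LinearEquiv.coe_det]
    rw [← hdet, ← LinearMap.det_conj (g.1 : V →ₗ[F] V) e]
    rfl
  rw [← map_utGroup H e he] at h
  obtain ⟨g', hg', e'⟩ := h
  rwa [← (formIsomsCongr B (hermB hF _) e he).injective e']

end CfsgLib.MinIdxU
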