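import Cfsg.Agent.Lib.MinIdxU.Four

/-!
# Additive subgroups of a hermitian four-space without singular elements
-/

set_option autoImplicit false
set_option linter.unusedSectionVars false

namespace CfsgLib.MinIdxU

open CfsgLib.Classical

/-- A bilinear map into a space of less than half the dimension has an isotropic vector. -/
theorem exists_isotropic_zmod {p : ℕ} [Fact p.Prime] {M N : Type*} [AddCommGroup M] [Module (ZMod p) M]
    [Finite M] [AddCommGroup N] [Module (ZMod p) N] [Finite N] (f : M →ₗ[ZMod p] M →ₗ[ZMod p] N)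
    (hdim : 2 * Module.finrank (ZMod p) N < Module.finrank (ZMod p) M) : ∃ z, z ≠ 0 ∧ f z z = 0 := by
  classical
  let bM := Module.finBasis (ZMod p) M
  let bN := Module.finBasis (ZMod p) N
  let P : Fin (Module.finrank (ZMod p) N) → MvPolynomial (Fin (Module.finrank (ZMod p) M)) (ZMod p) :=
    fun i => ∑ j, ∑ k, MvPolynomial.C (bN.repr (f (bM j) (bM k)) i) * (MvPolynomial.X j * MvPolynomial.X k)
  have hdeg : ∀ i, (P i).totalDegree ≤ 2 := fun i => by
    refine (MvPolynomial.totalDegree_finsetSum _ _).trans (Finset.sup_le fun j _ => ?_)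
    refine (MvPolynomial.totalDegree_finsetSum _ _).trans (Finset.sup_le fun k _ => ?_)
    refine (MvPolynomial.totalDegree_mul _ _).trans ?_
    rw [MvPolynomial.totalDegree_C, zero_add]
    refine (MvPolynomial.totalDegree_mul _ _).trans ?_
    rw [MvPolynomial.totalDegree_X, MvPolynomial.totalDegree_X]
  have hlt : (∑ i, (P i).totalDegree) < Fintype.card (Fin (Module.finrank (ZMod p) M)) := by
    rw [Fintype.card_fin]
    refine lt_of_le_of_lt (Finset.sum_le_sum fun i _ => hdeg i) ?_
    rw [Finset.sum_const, Finset.card_univ, Fintype.card_fin, smul_eq_mul, mul_comm]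
    exact hdim
  have hev : ∀ (x : Fin (Module.finrank (ZMod p) M) → ZMod p) i,
      MvPolynomial.eval x (P i) = bN.repr (f (bM.equivFun.symm x) (bM.equivFun.symm x)) i := by
    intro x i
    rw [Module.Basis.equivFun_symm_apply]
    simp only [P, map_sum, map_mul, MvPolynomial.eval_C, MvPolynomial.eval_X, LinearMap.sum_apply,
      map_smul, LinearMap.smul_apply, Finsupp.coe_finsetSum, Finset.sum_apply, Finsupp.coe_smul,
      Pi.smul_apply, smul_eq_mul]
    rw [Finset.sum_comm]
    exact Finset.sum_congr rfl fun j _ => by rw [Finset.mul_sum]; exact Finset.sum_congr rfl fun k _ => by ring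
  have hdvd := char_dvd_card_solutions_of_fintype_sum_lt p hlt
  have h0 : ∀ i, MvPolynomial.eval (0 : Fin (Module.finrank (ZMod p) M) → ZMod p) (P i) = 0 := fun i => by
    rw [hev, map_zero, map_zero, map_zero]; rfl
  replace hdvd : p ∣ Nat.card {x : Fin (Module.finrank (ZMod p) M) → ZMod p //
      ∀ i, MvPolynomial.eval x (P i) = 0} := by rw [Nat.card_eq_fintype_card]; convert hdvd
  have : Nonempty {x : Fin (Module.finrank (ZMod p) M) → ZMod p //
      ∀ i, MvPolynomial.eval x (P i) = 0} := ⟨⟨0, h0⟩⟩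
  have h2 := lt_of_lt_of_le (Fact.out : p.Prime).one_lt (Nat.le_of_dvd Nat.card_pos hdvd)
  obtain ⟨⟨x, hx⟩, hx0⟩ := @exists_ne _ (Finite.one_lt_card_iff_nontrivial.1 h2) ⟨0, h0⟩
  refine ⟨bM.equivFun.symm x, fun h => hx0 (Subtype.ext (bM.equivFun.symm.map_eq_zero_iff.1 h)), ?_⟩
  refine bN.repr.injective (Finsupp.ext fun i => ?_)
  rw [← hev x i, hx i, map_zero]
  rfl

variable {F : Type*} [Field F] [Fintype F] {q : ℕ} (hF : Fintype.card F = q ^ 2)

/-- The quadratic form on parameters of a line's transvection group. -/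
noncomputable def qd (z : F × F × F) : F := z.1 * z.2.2 + qFrob hF z.2.1 * z.2.1

/-- An additive subgroup of parameters without singular elements has at most `q²` elements. -/
theorem card_le_of_free (D : AddSubgroup (F × F × F))
    (h1 : ∀ z ∈ D, z.1 + qFrob hF z.1 = 0 ∧ z.2.2 + qFrob hF z.2.2 = 0)
    (hfree : ∀ z ∈ D, z ≠ 0 → qd hF z ≠ 0) : Nat.card D ≤ q ^ 2 := by
  obtain ⟨p, m, hp, hchar, -, hm⟩ := exists_char hF
  have : Fact p.Prime := ⟨hp⟩
  have hsmul : ∀ (A : AddSubgroup F) (a : A), p • a = 0 := fun A a => Subtype.ext (by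
    rw [AddSubgroup.coe_nsmul, ← Nat.cast_smul_eq_nsmul F, CharP.cast_eq_zero, zero_smul]; rfl)
  have hD : ∀ a : D, p • a = 0 := fun a => Subtype.ext (by
    rw [AddSubgroup.coe_nsmul, ← Nat.cast_smul_eq_nsmul F, CharP.cast_eq_zero, zero_smul]; rfl)
  letI iD : Module (ZMod p) D := AddCommGroup.zmodModule (n := p) hD
  letI iK : Module (ZMod p) (fixF hF) := AddCommGroup.zmodModule (n := p) (hsmul (fixF hF))
  letI := ZMod.algebra F p
  obtain ⟨π, hπ⟩ := LinearMap.exists_leftInverse_of_injective
    ((fixF hF).subtype.toZModLinearMap p) (LinearMap.ker_eq_bot.2 Subtype.val_injective)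
  let π' : F →+ fixF hF := π.toAddMonoidHom
  let f0 : D →+ D →+ fixF hF := AddMonoidHom.mk'
    (fun a => AddMonoidHom.mk'
      (fun b => π' (a.1.1 * b.1.2.2 + qFrob hF a.1.2.1 * b.1.2.1))
      (fun x y => by simp only [AddSubgroup.coe_add, Prod.fst_add, Prod.snd_add, ← map_add]; congr 1; ring))
    (fun x y => by
      ext b
      simp only [AddMonoidHom.mk'_apply, AddMonoidHom.add_apply, AddSubgroup.coe_add, Prod.fst_add,
        Prod.snd_add, map_add, add_mul]
      abel)
  let f :=
    LinearMap.mk₂ (ZMod p) (fun (a b : D) => f0 a b) (fun a a' b => by rw [map_add, AddMonoidHom.add_apply])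
      (fun c a b => by
        rw [← ZMod.natCast_rightInverse c, Nat.cast_smul_eq_nsmul, Nat.cast_smul_eq_nsmul, map_nsmul,
          AddMonoidHom.nsmul_apply])
      (fun a b b' => map_add _ _ _)
      (fun c a b => by
        rw [← ZMod.natCast_rightInverse c, Nat.cast_smul_eq_nsmul, Nat.cast_smul_eq_nsmul, map_nsmul])
  have hfin : @Module.Finite (ZMod p) (fixF hF) _ _ iK := by exact Module.Finite.of_finite
  by_contra hgt
  push Not at hgt
  have hdim : 2 * Module.finrank (ZMod p) (fixF hF) < Module.finrank (ZMod p) D := by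
    have e1 : Nat.card (fixF hF) = Nat.card (ZMod p) ^ Module.finrank (ZMod p) (fixF hF) :=
      @Module.natCard_eq_pow_finrank (ZMod p) (fixF hF) _ _ iK hfin
    have e2 : Nat.card D = Nat.card (ZMod p) ^ Module.finrank (ZMod p) D :=
      Module.natCard_eq_pow_finrank
    rw [Nat.card_zmod] at e1 e2
    rw [e2, hm, ← pow_mul, Nat.pow_lt_pow_iff_right hp.one_lt] at hgt
    replace e1 := (card_fixF hF).symm.trans e1
    have := Nat.pow_right_injective hp.two_le (hm.symm.trans e1)
    omega
  obtain ⟨z, hz0, hz⟩ := exists_isotropic_zmod f hdim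
  refine hfree z.1 z.2 (fun h => hz0 (Subtype.ext h)) ?_
  have hfix : z.1.1 * z.1.2.2 + qFrob hF z.1.2.1 * z.1.2.1 ∈ fixF hF := by
    obtain ⟨a, b⟩ := h1 z.1 z.2
    rw [mem_fixF, map_add, map_mul, map_mul, qFrob_qFrob,
      show qFrob hF z.1.1 = -z.1.1 by linear_combination a,
      show qFrob hF z.1.2.2 = -z.1.2.2 by linear_combination b]
    ring
  have h3 := LinearMap.congr_fun hπ ⟨_, hfix⟩
  exact congrArg Subtype.val (h3.symm.trans hz)

end CfsgLib.MinIdxU
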