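import Cfsg.Agent.Lib.MinIdxU.FiveTwoMain

/-!
# Minimal index in odd dimension
-/

set_option autoImplicit false
set_option linter.unusedSectionVars false

namespace CfsgLib.MinIdxU

open CfsgLib.Classical CfsgLib.Geom

universe u

variable {F : Type u} [Field F] [Fintype F] {q : ℕ} {hF : Fintype.card F = q ^ 2}

theorem aniso_arith_two (k : ℕ) (hk : Odd k) :
    (2 * 2 ^ 2 - 1) * nIso 2 k + 1 ≤ 2 ^ (2 * k) + nIso 2 k := by
  have h := nIso_formula 2 k
  push_cast at h
  rw [hk.neg_one_pow, pow_succ (2 : ℤ) k] at h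
  norm_num at h ⊢
  zify
  have : (1 : ℤ) ≤ 2 ^ k := one_le_pow₀ (by norm_num)
  linarith

theorem minIdx_odd (hq : 2 ≤ q) :
    ∀ n, 5 ≤ n → Odd n → ∀ (U : Type u) [AddCommGroup U] [Module F U] [FiniteDimensional F U]
      (B : U →ₛₗ[qFrob hF] U →ₗ[F] F) (H : IsHermSpace B),
      Module.finrank F U = n → MinIdx ↥(utGroup H) (nIso q n) := by
  intro n
  induction n using Nat.strong_induction_on with
  | _ n ih =>
    intro hn hodd U _ _ _ B H hU
    have hV : Gen B := gen_of_four (by omega)
    rcases Nat.eq_or_lt_of_le hn with h5 | h5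
    · subst h5
      rcases Nat.eq_or_lt_of_le hq with h2 | h3
      · exact minIdx_five_two H hV h2.symm hU
      · exact minIdx_five H hV h3 hU
    obtain ⟨k, rfl⟩ : ∃ k, n = k + 2 := ⟨n - 2, by omega⟩
    obtain ⟨j, hj⟩ := hodd
    have hk : Odd k := ⟨j - 1, by omega⟩
    have hk5 : 5 ≤ k := by omega
    have hW : ∀ P : UPair B, Module.finrank F P.W = k := fun P => by
      have := P.finrank_W H; omega
    have hT : ∀ P : UPair B, MinIdx ↥(utGroup (P.isHerm H)) (nIso q k) := fun P =>
      ih k (by omega) hk5 hk P.W P.form (P.isHerm H) (hW P)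
    have hAN : (2 * q ^ 2 - 1) * nIso q k + 1 ≤ q ^ (2 * k) + nIso q k := by
      rcases Nat.eq_or_lt_of_le hq with h2 | h3
      · subst h2; exact aniso_arith_two k hk
      · exact le_add_right (aniso_arith q k h3 (by omega))
    have hT1 : nIso q (k + 2) ≤ q ^ (k + 1) * nIso q k := by
      have hrec := nIso_add_two q k
      have hlt := sq_nIso_lt q k hq (by omega)
      have hge := Nat.mul_le_mul_left (q ^ (k + 1)) (nIso_ge q k (by omega))
      rw [← pow_add] at hge
      have h1 : q ^ (2 * k + 2) ≤ q ^ (k + 1 + (2 * (k - 2) + 1)) := Nat.pow_le_pow_right (by omega) (by omega)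
      have h2 : q ^ (2 * k + 2) = q * q ^ (2 * k + 1) := by rw [pow_succ, mul_comm]
      have h3 : q ^ (2 * k) ≤ q ^ (2 * k + 1) := Nat.pow_le_pow_right (by omega) (by omega)
      have h4 : 2 * q ^ (2 * k + 1) ≤ q * q ^ (2 * k + 1) := Nat.mul_le_mul_right _ hq
      omega
    refine minIdx_step_gen H k _ hq (by omega) (Or.inl (by omega)) hU hT
      (Nat.le_mul_of_pos_left _ (by positivity)) hAN hV fun K _ _ P y hy h => ?_
    have h1 := bound_of_minIdx H hV P (hT P) hy h
    rw [hW P] at h1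
    exact le_trans (Nat.mul_le_mul_right _ hT1) h1

end CfsgLib.MinIdxU
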