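import Cfsg.Agent.Lib.MinIdxU.ThreeMain
import Cfsg.Agent.Lib.MinIdxU.Iso
import Cfsg.Agent.Lib.ClassK.UThreeFiveMain

/-!
# Additive subgroups of order `q³` in three-dimensional unitary spaces; minimal index in dimension five
-/

set_option autoImplicit false
set_option linter.unusedSectionVars false

namespace CfsgLib.MinIdxU

open CfsgLib.Classical CfsgLib.Geom

universe u v

variable {F : Type u} [Field F] [Fintype F] {q : ℕ} {hF : Fintype.card F = q ^ 2}
variable {V : Type v} [AddCommGroup V] [Module F V] [FiniteDimensional F V]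
variable {B : V →ₛₗ[qFrob hF] V →ₗ[F] F} (H : IsHermSpace B)
include H

/-- A subgroup that is full modulo the centre is full. -/
theorem sup_center_ne_top (hV : Gen B) {K : Subgroup ↥(utGroup H)} (hK : K ≠ ⊤) :
    K ⊔ Subgroup.center ↥(utGroup H) ≠ ⊤ := by
  intro h
  refine hK (eq_top_iff.2 ?_)
  rw [← commutator_utGroup H hV.1 hV.2, commutator_def, Subgroup.commutator_le]
  intro a _ b _
  obtain ⟨k, hk, z, hz, rfl⟩ := Subgroup.mem_sup_of_normal_right.1 (h ▸ Subgroup.mem_top a)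
  obtain ⟨k', hk', z', hz', rfl⟩ := Subgroup.mem_sup_of_normal_right.1 (h ▸ Subgroup.mem_top b)
  rw [Subgroup.mem_center_iff] at hz hz'
  have e : (k * z) * (k' * z') * (k * z)⁻¹ * (k' * z')⁻¹ = k * k' * k⁻¹ * k'⁻¹ := by
    calc (k * z) * (k' * z') * (k * z)⁻¹ * (k' * z')⁻¹
        = k * (z * (k' * z') * z⁻¹) * k⁻¹ * (z'⁻¹ * k'⁻¹) := by group
      _ = k * (k' * z') * k⁻¹ * (z'⁻¹ * k'⁻¹) := by rw [← hz (k' * z'), mul_inv_cancel_right]
      _ = k * k' * (z' * k⁻¹ * z'⁻¹) * k'⁻¹ := by group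
      _ = k * k' * k⁻¹ * k'⁻¹ := by rw [← hz' k⁻¹, mul_inv_cancel_right]
  rw [commutatorElement_def, e]
  exact mul_mem (mul_mem (mul_mem hk hk') (inv_mem hk)) (inv_mem hk')

variable (hV : Gen B) (hn : Module.finrank F V = 3)
include hV hn

theorem minIdx_three_five (hq : q = 5) : MinIdx ↥(utGroup H) 50 := by
  subst hq
  obtain ⟨e, he⟩ := exists_isometry_hermB hF 3 B H.conj H.sep hn
  refine minIdx_congr (utCongr H e he) fun K hK => ?_
  have hV3 : Gen (hermB hF 3) := gen_of_three (by simp) (by norm_num)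
  have h32 : ¬ ((3 : ℕ) = 3 ∧ (5 : ℕ) = 2) := by omega
  let E := suEquiv hF (le_refl 3) h32
  let π := (QuotientGroup.mk' (Subgroup.center (Cfsg.SU 3 F 5))).comp E.symm.toMonoidHom
  have hπ : Function.Surjective π := (QuotientGroup.mk'_surjective _).comp E.symm.surjective
  have hker : π.ker = Subgroup.center ↥(utGroup (isHermSpace_hermB hF 3)) := by
    ext g
    show QuotientGroup.mk' _ (E.symm g) = 1 ↔ _
    rw [QuotientGroup.mk'_apply, QuotientGroup.eq_one_iff, Subgroup.mem_center_iff, Subgroup.mem_center_iff]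
    constructor
    · intro h k
      have := congrArg E (h (E.symm k))
      simpa using this
    · intro h k
      have := congrArg E.symm (h (E k))
      simpa using this
  have hne : K.map π ≠ ⊤ := fun h => sup_center_ne_top (isHermSpace_hermB hF 3) hV3 hK (by
    rw [← hker, ← Subgroup.comap_map_eq, h, Subgroup.comap_top])
  have hF25 : Fintype.card F = 25 := hF.trans (by norm_num)
  obtain ⟨hp, s, hs⟩ := CfsgLib.ClassK.UFive.exists_root hF25
  haveI := hp
  obtain ⟨S, -, -, -, -, -⟩ := CfsgLib.ClassK.UFive.exists_setup hF25 hs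
  have := finite_utGroup (isHermSpace_hermB hF 3)
  exact (CfsgLib.ClassK.UFive.fifty_le S _ hne).trans
    (Nat.le_of_dvd (Nat.pos_of_ne_zero Subgroup.index_ne_zero_of_finite) (K.index_map_dvd hπ))

/-- The stabilizer of an isotropic point preserves no additive subgroup of order `q³`. -/
theorem card_ne_of_borel (P : UPair B) (A : AddSubgroup V)
    (hA : ∀ g : ↥(utGroup H), g • pt H P = pt H P → ∀ a ∈ A, g.1.1 a ∈ A) : Nat.card A ≠ q ^ 3 := by
  classical
  intro hc
  have := finite_V H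
  have hq := two_le_of_card_sq hF
  obtain ⟨τ, hτ0, hτ⟩ := exists_skew_ne_zero hF
  have hQ : ∀ (w : P.W) (c : F), EichOK B P.p (w : V) c → ∀ a ∈ A,
      B P.p a • (w : V) + (c * B P.p a - B (w : V) a) • P.p ∈ A := by
    intro w c hok a ha
    have hfix : eG H hV P.p (w : V) c • pt H P = pt H P :=
      (smul_pt_iff H).2 ⟨1, by rw [one_smul]; exact eG_fix_p H hV P hok⟩
    have h := A.sub_mem (hA _ hfix a ha) ha
    rwa [eG_coe, eich_apply H hok, add_assoc, add_sub_cancel_left] at h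
  have hline : ∀ b : F, b ≠ 0 → b • P.p ∈ A → ∀ t : F, t • P.p ∈ A := by
    intro b hb hbA t
    by_cases ht : t = 0
    · rw [ht, zero_smul]; exact A.zero_mem
    obtain ⟨g, hgp, hgr⟩ := exists_lev H hV P (div_ne_zero ht hb)
    have h := hA g ((smul_pt_iff H).2 ⟨_, hgp⟩) _ hbA
    rwa [map_smul, hgp, smul_smul, mul_div_cancel₀ _ hb] at h
  by_cases h1 : ∃ a ∈ A, B P.p a ≠ 0
  · obtain ⟨a, ha, hpa⟩ := h1
    have hp : (τ * B P.p a) • P.p ∈ A := by
      have h := hQ 0 τ (by rw [Submodule.coe_zero]; exact transv_ok H P.hpp hτ) a ha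
      simpa using h
    have hFp := hline _ (mul_ne_zero hτ0 hpa) hp
    have hW : ∀ w : P.W, (w : V) ∈ A := by
      intro w
      obtain ⟨c, hok⟩ := exists_ok H P.hpp (P.pw ((B P.p a)⁻¹ • w))
      have h := A.sub_mem (hQ _ c hok a ha) (hFp (c * B P.p a - B (((B P.p a)⁻¹ • w : P.W) : V) a))
      rwa [add_sub_cancel_right, Submodule.coe_smul, smul_inv_smul₀ hpa] at h
    have hle : Nat.card (P.W × F) ≤ Nat.card A := by
      refine Nat.card_le_card_of_injective
        (fun z : P.W × F => (⟨(z.1 : V) + z.2 • P.p, A.add_mem (hW z.1) (hFp z.2)⟩ : A)) fun z z' e => ?_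
      have e' := congrArg (fun x : A => P.split H x.1) e
      have e1 : ∀ z : P.W × F, P.split H ((z.1 : V) + z.2 • P.p) = (z.1, z.2, 0) := fun z => by
        rw [← (P.split H).eq_symm_apply, P.split_symm_apply H]; simp
      simp only [e1, Prod.mk.injEq, and_true] at e'
      exact Prod.ext e'.1 e'.2
    rw [hc, Nat.card_prod, card_W_three H hn P, Nat.card_eq_fintype_card, hF, ← sq, ← pow_mul] at hle
    have := Nat.pow_lt_pow_right (show 1 < q by omega) (show 3 < 2 * 2 by norm_num)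
    omega
  push Not at h1
  have hdec : ∀ a ∈ A, a = ((P.split H a).1 : V) + B P.r a • P.p := by
    intro a ha
    rw [(P.split_apply H a).1, h1 a ha, zero_smul, sub_zero, sub_add_cancel]
  by_cases h2 : ∃ a ∈ A, (P.split H a).1 ≠ 0
  swap
  · push Not at h2
    have hle : Nat.card A ≤ Nat.card F := by
      refine Nat.card_le_card_of_injective (fun a : A => B P.r a.1) fun a b e => Subtype.ext ?_
      simp only at e
      rw [hdec a.1 a.2, hdec b.1 b.2, h2 a.1 a.2, h2 b.1 b.2, e]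
    rw [hc, Nat.card_eq_fintype_card, hF] at hle
    have := Nat.pow_lt_pow_right (show 1 < q by omega) (show 2 < 3 by norm_num)
    omega
  obtain ⟨a, ha, ha0⟩ := h2
  obtain ⟨w0, hw0⟩ : ∃ w0 : P.W, w0 = (P.split H a).1 := ⟨_, rfl⟩
  rw [← hw0] at ha0
  have hFp : ∀ t : F, t • P.p ∈ A := by
    obtain ⟨c, hok⟩ := exists_ok H P.hpp (P.pw w0)
    have h := hQ w0 c hok a ha
    rw [h1 a ha, zero_smul, zero_add, mul_zero, zero_sub] at h
    refine hline _ (neg_ne_zero.2 fun h0 => ha0 (eq_zero_of_self H hV hn P ?_)) h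
    rwa [hdec a ha, map_add, map_smul, P.wp H, smul_zero, add_zero, ← hw0] at h0
  let E : AddSubgroup P.W := A.comap P.W.subtype.toAddMonoidHom
  have hcard : Nat.card A = Nat.card E * Nat.card F := by
    rw [← Nat.card_prod]
    exact Nat.card_congr
      { toFun := fun a => (⟨(P.split H a.1).1, by
          show ((P.split H a.1).1 : V) ∈ A
          have h := A.sub_mem a.2 (hFp (B P.r a.1))
          rwa [show a.1 - B P.r a.1 • P.p = ((P.split H a.1).1 : V) by
            rw [sub_eq_iff_eq_add]; exact hdec a.1 a.2] at h⟩, B P.r a.1)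
        invFun := fun z => ⟨(z.1.1 : V) + z.2 • P.p, A.add_mem z.1.2 (hFp z.2)⟩
        left_inv := fun a => Subtype.ext (hdec a.1 a.2).symm
        right_inv := fun z => by
          have e : P.split H ((z.1.1 : V) + z.2 • P.p) = (z.1.1, z.2, 0) := by
            rw [← (P.split H).eq_symm_apply, P.split_symm_apply H]; simp
          refine Prod.ext (Subtype.ext (congrArg Prod.fst e)) ?_
          simp [P.rw0, P.hrp H] }
  rw [hc, Nat.card_eq_fintype_card (α := F), hF] at hcard
  have hE : Nat.card E = q := (Nat.eq_of_mul_eq_mul_right (show 0 < q ^ 2 by positivity)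
    (by rw [← pow_succ' q 2]; exact hcard)).symm
  have hdvd := dvd_card_sub_one (powMonoidHom (q - 1) : Fˣ →* Fˣ).range E fun u hu w hw => by
    obtain ⟨b, rfl⟩ := hu
    obtain ⟨g, hgp, hgr⟩ := exists_lev H hV P b.ne_zero
    obtain ⟨-, hW, -⟩ := stab_shape H hn P hgp
    obtain ⟨β, hβ⟩ := hW w
    have hβ0 : β = 0 := by
      have h := (IsLev.map_W (H := H) ⟨b.ne_zero, hgp, hgr⟩ w).2
      change B P.r _ = 0 at h
      rwa [hβ, map_add, map_smul, map_smul, P.rw0, smul_zero, zero_add, P.hrp H, smul_eq_mul, mul_one] at h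
    rw [hβ0, zero_smul, add_zero] at hβ
    have h := hA g ((smul_pt_iff H).2 ⟨_, hgp⟩) (w : V) hw
    show ((((powMonoidHom (q - 1) b : Fˣ) : F) • w : P.W) : V) ∈ A
    rw [hβ] at h
    rw [Submodule.coe_smul, show ((powMonoidHom (q - 1) b : Fˣ) : F) = qFrob hF (b : F) / (b : F) by
      rw [powMonoidHom_apply, Units.val_pow_eq_pow_val, qFrob_apply, eq_div_iff b.ne_zero, ← pow_succ,
        show q - 1 + 1 = q by omega]]
    exact h
  have hr : Nat.card ↥(powMonoidHom (q - 1) : Fˣ →* Fˣ).range = q + 1 := by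
    have h := (powMonoidHom (q - 1) : Fˣ →* Fˣ).ker.card_mul_index
    rw [Subgroup.index_ker, card_units_sq hF, card_ker_pow hF (dvd_mul_left _ _), mul_comm] at h
    exact Nat.eq_of_mul_eq_mul_right (by omega) h
  rw [hr, hE] at hdvd
  have := Nat.le_of_dvd (by omega) hdvd
  omega

/-- An additive subgroup of order `q³` has a stabilizer of index at least `q³ + q + 1`. -/
theorem index_ge_of_card_cube (hq : 3 ≤ q) (A : AddSubgroup V) (hA : Nat.card A = q ^ 3)
    (J : Subgroup ↥(utGroup H)) (hJA : ∀ g ∈ J, ∀ a ∈ A, g.1.1 a ∈ A) (hJ : J ≠ ⊤) :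
    q ^ 3 + q + 1 ≤ J.index := by
  classical
  have := finite_utGroup H
  have hJ' := sup_center_ne_top H hV hJ
  obtain ⟨J', hJ'def⟩ : ∃ J', J' = J ⊔ Subgroup.center ↥(utGroup H) := ⟨_, rfl⟩
  rw [← hJ'def] at hJ'
  have hle : J ≤ J' := hJ'def ▸ le_sup_left
  have hpos : 0 < J.index := Nat.pos_of_ne_zero Subgroup.index_ne_zero_of_finite
  have hdvd := Subgroup.index_dvd_of_le hle
  by_cases hq5 : q = 5
  · have h50 := minIdx_three_five H hV hn hq5 J' hJ'
    subst hq5
    obtain ⟨P⟩ := exists_pair H hV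
    have hcap : ∀ z ∈ Subgroup.center ↥(utGroup H), z ∈ J → z = 1 := by
      intro z hz hzJ
      by_contra hne
      obtain ⟨a, ha⟩ := (mem_center_utGroup_iff H hV.1 _).1 hz
      obtain ⟨ha0, hk⟩ := ker_of_scal H hV hn ha
      have hp3 : Nat.card ↥(Subgroup.zpowers (Units.mk0 a ha0)) ∣ Nat.card A - 1 := by
        have := finite_V H
        refine dvd_card_sub_one _ A fun b hb w hw => ?_
        obtain ⟨i, rfl⟩ := hb
        have key : ∀ i : ℕ, ((Units.mk0 a ha0 ^ i : Fˣ) : F) • w ∈ A := by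
          intro i
          induction i with
          | zero => simpa using hw
          | succ i ih =>
            rw [pow_succ', Units.val_mul, Units.val_mk0, mul_smul, ← ha]
            exact hJA z hzJ _ ih
        obtain ⟨j, hj⟩ := (mem_powers_iff_mem_zpowers (x := Units.mk0 a ha0)).2 ⟨i, rfl⟩
        simp only at hj ⊢
        rw [← hj]
        exact key j
      rw [Nat.card_zpowers, hA] at hp3
      have h3 : orderOf (Units.mk0 a ha0) ∣ 3 := by
        have := orderOf_dvd_natCard (⟨_, hk⟩ : ↥(lamHom 5 F).ker)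
        rwa [Subgroup.orderOf_mk, card_ker_lam hF] at this
      rcases (Nat.dvd_prime Nat.prime_three).1 h3 with h | h
      · refine hne (Subtype.ext (herm_ext fun v => ?_))
        have h1 : a = 1 := congrArg Units.val (orderOf_eq_one_iff.1 h)
        rw [ha, h1, one_smul]
        rfl
      · rw [h] at hp3
        norm_num at hp3
    have h3 : 3 * Nat.card J ≤ Nat.card J' := by
      rw [show 3 = Nat.card ↥(Subgroup.center ↥(utGroup H)) by rw [card_center H hV hn]; norm_num,
        ← Nat.card_prod]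
      refine Nat.card_le_card_of_injective
        (fun x : ↥(Subgroup.center ↥(utGroup H)) × ↥J => (⟨x.2.1 * x.1.1,
          hJ'def ▸ Subgroup.mul_mem_sup x.2.2 x.1.2⟩ : ↥J')) fun x y e => ?_
      have e' : x.2.1 * x.1.1 = y.2.1 * y.1.1 := congrArg Subtype.val e
      have h : y.2.1⁻¹ * x.2.1 = y.1.1 * x.1.1⁻¹ := by
        rw [eq_mul_inv_iff_mul_eq, mul_assoc, e', inv_mul_cancel_left]
      have h1 : y.1.1 * x.1.1⁻¹ = 1 :=
        hcap _ (mul_mem y.1.2 (inv_mem x.1.2)) (h ▸ mul_mem (inv_mem y.2.2) x.2.2)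
      rw [h1, inv_mul_eq_one] at h
      rw [mul_inv_eq_one] at h1
      exact Prod.ext (Subtype.ext h1.symm) (Subtype.ext h.symm)
    have hmul := J.card_mul_index
    rw [← J'.card_mul_index] at hmul
    have h4 : 3 * Nat.card J * J'.index ≤ Nat.card J * J.index := hmul ▸ Nat.mul_le_mul_right _ h3
    rw [mul_comm 3, mul_assoc] at h4
    have := Nat.le_of_mul_le_mul_left h4 Nat.card_pos
    norm_num
    omega
  · by_contra hlt
    obtain ⟨ω, hω⟩ := three_fixes H hV hn J' hq hq5 (hJ'def ▸ le_sup_right) hJ'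
      ((Nat.le_of_dvd hpos hdvd).trans (by omega))
    have := isoPoints_isPretransitive H hV.1 hV.2
    have h1 : J ≤ MulAction.stabilizer ↥(utGroup H) ω := fun g hg => hω g (hle hg)
    have h2 := Subgroup.relIndex_mul_index h1
    rw [MulAction.index_stabilizer_of_transitive, card_isoPoints H hn] at h2
    have h27 : 3 ^ 3 ≤ q ^ 3 := Nat.pow_le_pow_left hq 3
    have hq3 : q ≤ q ^ 3 := Nat.le_self_pow (by norm_num) q
    have hr : J.relIndex (MulAction.stabilizer ↥(utGroup H) ω) = 1 := by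
      rcases Nat.lt_or_ge (J.relIndex (MulAction.stabilizer ↥(utGroup H) ω)) 2 with h | h
      · rcases Nat.eq_zero_or_pos (J.relIndex (MulAction.stabilizer ↥(utGroup H) ω)) with h0 | h0
        · rw [h0, zero_mul] at h2; omega
        · omega
      · exfalso
        have h3 := Nat.mul_le_mul_right (q ^ 3 + 1) h
        have : q < q ^ 3 := lt_of_lt_of_le (show q < q ^ 2 by rw [sq]; exact lt_mul_of_one_lt_left (by omega) (by omega))
          (Nat.pow_le_pow_right (by omega) (by norm_num))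
        omega
    obtain ⟨P, rfl⟩ := pt_surj H ω
    exact card_ne_of_borel H hV hn P A
      (fun g hg a ha => hJA g (Subgroup.relIndex_eq_one.1 hr hg) a ha) hA

omit hn

/-- Minimal index in dimension five, `q ≥ 3`. -/
theorem minIdx_five (hq : 3 ≤ q) (h5 : Module.finrank F V = 5) : MinIdx ↥(utGroup H) (nIso q 5) := by
  classical
  obtain ⟨p, m, hp, hchar, hm, hqp⟩ := exists_char hF
  have hn3 : ∀ P : UPair B, Module.finrank F P.W = 3 := fun P => by
    have := P.finrank_W H; omega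
  have hVW : ∀ P : UPair B, Gen P.form := fun P => gen_of_three (by rw [hn3 P]) hq
  obtain ⟨T, hT, hTge⟩ : ∃ T, (∀ P : UPair B, MinIdx ↥(utGroup (P.isHerm H)) T) ∧
      ((q = 5 ∧ T = 50) ∨ (q ≠ 5 ∧ T = q ^ 3 + 1)) := by
    by_cases hq5 : q = 5
    · exact ⟨50, fun P => minIdx_three_five (P.isHerm H) (hVW P) (hn3 P) hq5, Or.inl ⟨hq5, rfl⟩⟩
    · exact ⟨q ^ 3 + 1, fun P => minIdx_three (P.isHerm H) (hVW P) (hn3 P) hq hq5, Or.inr ⟨hq5, rfl⟩⟩
  have e3 : nIso q 3 = 1 + q ^ 3 := by simp [nIso, add_comm]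
  have e5 : nIso q 5 = 1 + q ^ 2 * (1 + q ^ 3) + q ^ 7 := by rw [nIso_add_two, e3]
  have h3le : q ^ 3 + 1 ≤ q ^ 2 * T ∧ q ^ 7 + q ^ 5 + q ^ 2 + 1 ≤ p * q ^ 4 * T := by
    rcases hTge with ⟨rfl, rfl⟩ | ⟨-, rfl⟩
    · have : p = 5 := ((Nat.prime_dvd_prime_iff_eq hp (by norm_num : Nat.Prime 5)).1
        (hqp ▸ dvd_pow_self p (by omega)))
      subst this
      norm_num
    · refine ⟨Nat.le_mul_of_pos_left _ (by positivity), ?_⟩
      calc q ^ 7 + q ^ 5 + q ^ 2 + 1 ≤ 2 * q ^ 4 * (q ^ 3 + 1) := by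
            have h1 : q ^ 5 * 9 ≤ q ^ 7 := by
              rw [show q ^ 7 = q ^ 5 * q ^ 2 by ring]; exact Nat.mul_le_mul_left _ (by nlinarith)
            have h2 : q ^ 2 ≤ q ^ 5 := Nat.pow_le_pow_right (by omega) (by omega)
            have h3 : 1 ≤ q ^ 5 := Nat.one_le_pow _ _ (by omega)
            have e : 2 * q ^ 4 * (q ^ 3 + 1) = 2 * q ^ 7 + 2 * q ^ 4 := by ring
            omega
        _ ≤ _ := Nat.mul_le_mul_right _ (Nat.mul_le_mul_right _ hp.two_le)
  have hgen := minIdx_step_gen H 3 T (by omega) le_rfl (Or.inr hq) h5 hT (by rw [e3]; omega)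
    (le_add_right (aniso_arith q 3 hq le_rfl)) hV fun K _ _ P y hy hsq => ?_
  · exact hgen
  have := finite_V H
  have := finite_utGroup (P.isHerm H)
  obtain ⟨A, hA⟩ : ∃ A : AddSubgroup P.W, A = hbx H hV P y := ⟨_, rfl⟩
  rw [← hA] at hsq ⊢
  rw [card_W H P, hn3 P, show 2 * 3 = 3 + 3 by norm_num, pow_add] at hsq
  have h3' := Nat.mul_self_le_mul_self_iff.1 hsq
  obtain ⟨j, -, hj⟩ : ∃ j, j ≤ m * 6 ∧ Nat.card A = p ^ j :=
    (Nat.dvd_prime_pow hp).1 (by
      refine (AddSubgroup.card_addSubgroup_dvd_card A).trans (dvd_of_eq ?_)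
      rw [card_W H P, hn3 P, hqp, ← pow_mul])
  have hT' := card_sFam_ge H hV P (hT P) (not_forall.1 hy)
  rw [show 2 * 3 + 1 = 7 from rfl]
  by_cases hcase : Nat.card A = q ^ 3
  · have hne : hbStab H hV P y ≠ ⊤ := by
      intro htop
      have hinv : ∀ g ∈ utGroup (P.isHerm H), ∀ a ∈ A, g.1 a ∈ A := fun g hg a ha => by
        have h : (⟨g, hg⟩ : ↥(utGroup (P.isHerm H))) ∈ hbStab H hV P y := htop ▸ Subgroup.mem_top _
        rw [hA] at ha ⊢
        exact h a ha
      rcases invariant_eq_bot_or_top (P.isHerm H) (hVW P) A hinv with h | h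
      · rw [h, AddSubgroup.card_bot] at hcase
        exact absurd hcase.symm (ne_of_gt (Nat.one_lt_pow (by norm_num) (by omega)))
      · rw [h, AddSubgroup.card_top, card_W H P, hn3 P] at hcase
        exact absurd hcase (ne_of_gt (Nat.pow_lt_pow_right (by omega) (by norm_num)))
    have hR := (index_ge_of_card_cube (P.isHerm H) (hVW P) (hn3 P) hq A hcase (hbStab H hV P y)
      (fun g hg a ha => by rw [hA] at ha ⊢; exact hg a ha) hne).trans (hbStab_index_le H hV P y)
    rw [hcase, e5]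
    calc (1 + q ^ 2 * (1 + q ^ 3) + q ^ 7) * q ^ 3 ≤ (q ^ 3 + q + 1) * q ^ 4 * q ^ 3 := by
          refine Nat.mul_le_mul_right _ ?_
          have h1 : q ^ 2 + 1 ≤ q ^ 4 := Nat.succ_le_of_lt (Nat.pow_lt_pow_right (by omega) (by norm_num))
          have e1 : q ^ 2 * (1 + q ^ 3) = q ^ 2 + q ^ 5 := by ring
          have e2 : (q ^ 3 + q + 1) * q ^ 4 = q ^ 7 + q ^ 5 + q ^ 4 := by ring
          omega
      _ = (q ^ 3 + q + 1) * q ^ 7 := by ring
      _ ≤ _ := Nat.mul_le_mul_right _ hR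
  · have hjp : p * Nat.card A ≤ q ^ 3 := by
      have hjlt : j < m * 3 := by
        by_contra h
        refine hcase (le_antisymm h3' ?_)
        rw [hj, hqp, ← pow_mul]
        exact Nat.pow_le_pow_right hp.pos (by omega)
      rw [hj, hqp, ← pow_mul, ← pow_succ']
      exact Nat.pow_le_pow_right hp.pos hjlt
    rw [e5]
    calc (1 + q ^ 2 * (1 + q ^ 3) + q ^ 7) * Nat.card A ≤ p * q ^ 4 * T * Nat.card A := by
          refine Nat.mul_le_mul_right _ ?_
          have e1 : q ^ 2 * (1 + q ^ 3) = q ^ 2 + q ^ 5 := by ring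
          omega
      _ = T * q ^ 4 * (p * Nat.card A) := by ring
      _ ≤ T * q ^ 4 * q ^ 3 := Nat.mul_le_mul_left _ hjp
      _ = T * q ^ 7 := by ring
      _ ≤ _ := Nat.mul_le_mul_right _ hT'

end CfsgLib.MinIdxU
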